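import Cfsg.Agent.Lib.PermComp.OutP.Pc

/-!
# Automorphisms of a permutation group: the master theorems, with a polycyclic Sylow subgroup
-/

set_option autoImplicit false

namespace Cfsg.Agent.Lib.PermComp.OutP

open Cfsg Cfsg.Agent.Lib.Golay.OutAbs
open Cfsg.Agent.Lib.PermComp.Core (force force_eq ifB ifB_eq_true allL allL_eq_true memN memN_eq_true)
open Cfsg.Agent.Lib.PermComp.Kron (rangeAll rangeAll_spec forall_of_chunks)

variable {n : Nat}

/-- The root of a forest of another class. -/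
noncomputable def rootO (Os : List Frs) (cls : Nat) : Nat :=
  (Os.getD cls ⟨0, 0, fun _ => 0, 1, 0, 0, 0, []⟩).t0

/-- Building the rigid data, from the covering of the involutions of the type. -/
theorem RigidD.mk2 {m : Nat} {F : Nat → Nat → Nat} {E : Nat → Equiv.Perm (Fin n)}
    {H : Subgroup (Equiv.Perm (Fin n))} [Finite H] {D : Frs} {gA c p : Nat}
    {rs : List (List Bool × Nat × Nat)} {goods : List (Nat × Nat)}
    {Bs : List Nat}
    (hE : ∀ g < m, E g ∈ H ∧ Rp (F g) (E g)) (hD : D.OK n m F) (hA : gA < m)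
    (hgen : Subgroup.closure ({E gA, E D.t0} : Set (Equiv.Perm (Fin n))) = H)
    (hbase : ∀ x ∈ H, ∀ y ∈ H, (∀ b ∈ Bs, ∀ (hb : b < n), x ⟨b, hb⟩ = y ⟨b, hb⟩) → x = y)
    (ht2 : E D.t0 * E D.t0 = 1) (ht1 : E D.t0 ≠ 1)
    (hLc : c * D.L = Nat.card H)
    (hcen : c ≤ Nat.card (H ⊓ Subgroup.centralizer ({E D.t0} : Set (Equiv.Perm (Fin n))) :
      Subgroup (Equiv.Perm (Fin n))))
    (hcov : ∀ t ∈ H, TpInv H c t → ∃ i < D.L, t = D.e E i)
    (hAp : E gA ^ p = 1)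
    (hq : ∀ r ∈ rs, r.2.2 < n) (hchk : ∀ i < D.L, rchk F gA D rs (goods.map Prod.fst) i = true)
    (hrel : ∀ r ∈ rs, ∀ q < n, relAll (F gA) (F D.t0) r.1 r.2.1 q = true)
    (hgood : ∀ x ∈ goods, x.2 ≤ p ∧ goodOK F D gA p Bs x = true) :
    RigidD n m F E H D gA c rs := by
  have ht0 := hE _ hD.ht0
  refine ⟨hE, hD, hA, hgen, ⟨ht2, ht1, ht0.1, hD.card_cent hE hLc hcen⟩, rel_of_check (hE _ hA).2
    ht0.2 hrel, ?_⟩
  refine rigid_R1 hD hE hA hcov hq hchk ?_
  intro i hi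
  obtain ⟨x, hx, rfl⟩ := List.mem_map.1 hi
  obtain ⟨h1, h2⟩ := hgood x hx
  have hAm := (hE _ hA)
  refine ⟨p - x.2, ?_⟩
  have h3 : D.e E x.1 = E gA ^ x.2 * E D.t0 * E gA ^ (p - x.2) := by
    refine hbase _ (hD.mem hE _) _ (H.mul_mem (H.mul_mem (H.pow_mem hAm.1 _) ht0.1)
      (H.pow_mem hAm.1 _)) fun b hb hb' => ?_
    apply Fin.ext
    have r1 := hD.rp hE x.1 b hb'
    have r2 := (((powA_spec hAm.2 x.2).mul ht0.2).mul (powA_spec hAm.2 (p - x.2))) b hb'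
    rw [← r1, ← r2]
    exact agree_spec h2 b hb
  rw [h3]
  have e1 : E gA ^ (p - x.2) * E gA ^ x.2 = 1 := by
    rw [← pow_add, Nat.sub_add_cancel h1, hAp]
  calc E gA ^ (p - x.2) * (E gA ^ x.2 * E D.t0 * E gA ^ (p - x.2)) * (E gA ^ (p - x.2))⁻¹
      = (E gA ^ (p - x.2) * E gA ^ x.2) * E D.t0 := by group
    _ = E D.t0 := by rw [e1, one_mul]

/-- The checks common to the two master theorems. -/
structure Common2 (n m N c a mm p : Nat) (F : Nat → Nat → Nat) (prog : Nat → List Nat)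
    (ds cs : List LevD) (D : Frs) (S : PcD) (Bs : List Nat) (Os : List Frs) (wds : Nat → List Nat)
    (rs : List (List Bool × Nat × Nat)) (goods : List (Nat × Nat)) : Prop where
  hn : 0 < n
  hm1 : 1 < m
  hlt : ∀ g < m, 2 ≤ g → ∀ a ∈ prog g, a < g
  hp : ∀ g < m, 2 ≤ g → ∀ q < n, F g q = wApp F (prog g) q
  hds : LevsC n m F [] ds
  hdsm : ∀ d ∈ ds, d.off + d.cnt ≤ m
  hprod : N = (ds.map LevD.m).prod
  hBs : Bs = ds.map LevD.b
  hDt : D.t0 = 1
  hD : D.OK n m F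
  hcs : LevsC n m F [] cs
  hcomm : ∀ d ∈ cs, d.off + d.cnt ≤ m ∧ ∀ g, d.off ≤ g → g < d.off + d.cnt →
      ∀ q < n, F g (F 1 q) = F 1 (F g q)
  hc : c = (cs.map LevD.m).prod
  hLc : c * D.L = N
  hS : S.OK n m D.L F (D.v F) (rootO Os) wds Os.length Bs
  hP : S.a = a
  hN2 : N = 2 ^ a * mm
  hmm : ¬ 2 ∣ mm
  hOs : ∀ O ∈ Os, O.OK n m F ∧ D.L < O.L
  hb2 : ∀ q < n, F 1 (F 1 q) = q
  hb1 : ∃ q < n, F 1 q ≠ q
  hAp : ∀ q < n, powA (F 0) p q = q
  hA1 : ∃ q < n, F 0 q ≠ q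
  hq : ∀ r ∈ rs, r.2.2 < n
  hchk : ∀ i < D.L, rchk F 0 D rs (goods.map Prod.fst) i = true
  hrel : ∀ r ∈ rs, ∀ q < n, relAll (F 0) (F 1) r.1 r.2.1 q = true
  hgood : ∀ x ∈ goods, x.2 ≤ p ∧ goodOK F D 0 p Bs x = true

section

variable {m N c a mm p : Nat} {F : Nat → Nat → Nat} {prog : Nat → List Nat}
    {ds cs : List LevD} {D : Frs} {S : PcD} {Bs : List Nat} {Os : List Frs} {wds : Nat → List Nat}
    {rs : List (List Bool × Nat × Nat)} {goods : List (Nat × Nat)}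
    {H : Subgroup (Equiv.Perm (Fin n))} {A b : Equiv.Perm (Fin n)}

/-- The result of the common checks. -/
structure Common2.Out (hC : Common2 n m N c a mm p F prog ds cs D S Bs Os wds rs goods)
    (H : Subgroup (Equiv.Perm (Fin n))) (A b : Equiv.Perm (Fin n))
    (E : Nat → Equiv.Perm (Fin n)) : Prop where
  hE : ∀ g < m, E g ∈ H ∧ Rp (F g) (E g)
  hA : E 0 = A
  hb : E 1 = b
  hlev : LevsOK n hC.hn F E H [] ds
  hex : ChainEx H [] (lvs hC.hn ds)
  hbase : ∀ x ∈ H, ∀ y ∈ H, (∀ b ∈ Bs, ∀ (hb : b < n), x ⟨b, hb⟩ = y ⟨b, hb⟩) → x = y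
  hR : RigidD n m F E H D 0 c rs
  hcov : ∀ t ∈ H, TpInv H c t → ∃ i < D.L, t = D.e E i

theorem Common2.out [Finite H] (hC : Common2 n m N c a mm p F prog ds cs D S Bs Os wds rs goods)
    (hcard : Nat.card H = N) (hA : A ∈ H) (hb : b ∈ H) (rA : Rp (F 0) A) (rb : Rp (F 1) b) :
    ∃ E, hC.Out H A b E := by
  have hm0 : 0 < m := by
    have := hC.hm1
    omega
  obtain ⟨E, hE, hE0, hE1, hgen, hlev⟩ := setup hC.hn hA hb rA rb prog hC.hlt hC.hp ds hC.hds hC.hdsm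
    (by rw [hcard, hC.hprod])
  have hE0' := hE0 hm0
  have hE1' := hE1 hC.hm1
  have hds' : ∀ d ∈ ds, d.b < n := by
    have : ∀ (ds : List LevD) (l : List Nat), LevsC n m F l ds → ∀ d ∈ ds, d.b < n := by
      intro ds
      induction ds with
      | nil => intro _ _ d hd; simp at hd
      | cons e ds ih =>
        intro l h d hd
        rcases List.mem_cons.1 hd with rfl | hd
        · exact h.2.2.2.2.1
        · exact ih _ h.2.2.2.2.2 d hd
    exact this ds [] hC.hds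
  obtain ⟨hex, hbase⟩ := hbase_of_levs hlev (by rw [hcard, hC.hprod]) hds' hC.hBs
  refine ⟨E, hE, hE0', hE1', hlev, hex, hbase, ?_, ?_⟩
  all_goals
    have hDt := hC.hDt
    have hD := hC.hD
    have hNpos : 0 < N := by rw [← hcard]; exact Nat.card_pos
    have hLc' : c * D.L = Nat.card H := by rw [hC.hLc, hcard]
    have hcen : c ≤ Nat.card (H ⊓ Subgroup.centralizer ({E D.t0} : Set (Equiv.Perm (Fin n))) :
        Subgroup (Equiv.Perm (Fin n))) := by
      rw [hC.hc, hDt]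
      exact cent_ge hC.hn hE hC.hm1 cs hC.hcs hC.hcomm
    have hoth : ∀ cls < Os.length, rootO Os cls < m ∧ ∀ he : E (rootO Os cls) ∈ H,
        Nat.card (Subgroup.centralizer {(⟨E (rootO Os cls), he⟩ : H)}) ≠ c := by
      intro cls h1
      have hOm : Os.getD cls ⟨0, 0, fun _ => 0, 1, 0, 0, 0, []⟩ ∈ Os := by
        rw [List.getD_eq_getElem _ _ h1]
        exact List.getElem_mem h1
      obtain ⟨h2, h4⟩ := hC.hOs _ hOm
      refine ⟨h2.ht0, fun he => ?_⟩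
      exact card_cent_ne he hLc' h4 (Frs.e _ E) (fun i _ => h2.conj hE i) (h2.inj hE)
    have hcard2 : Nat.card H = 2 ^ a * mm := by rw [hcard, hC.hN2]
    have hcov : ∀ t ∈ H, TpInv H c t → ∃ i < D.L, t = D.e E i := by
      intro t _ hT
      have hcard3 : Nat.card H = 2 ^ S.a * mm := by rw [hC.hP]; exact hcard2
      obtain ⟨x, hx, l, _, e, he1, he2⟩ := pc_classify hC.hS hE hbase hcard3 hC.hmm
        (fun l _ => ⟨D.e E l, hD.mem hE l, hD.rp hE l⟩) hoth hT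
      have he3 : e = D.e E l := he1.eq (hD.rp hE l)
      obtain ⟨y, hy, e3⟩ := hD.conj hE l
      rw [he3, e3] at he2
      have hm' : x⁻¹ * y ∈ H := H.mul_mem (H.inv_mem hx) hy
      obtain ⟨i, hi, e4⟩ := hD.cover hE hLc' hcen _ hm'
      refine ⟨i, hi, ?_⟩
      rw [← e4]
      have : t = x⁻¹ * (x * t * x⁻¹) * x := by group
      rw [this, he2]
      group
  · have hgen' : Subgroup.closure ({E 0, E D.t0} : Set (Equiv.Perm (Fin n))) = H := by
      rw [hDt, hE0', hE1']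
      exact hgen
    have hb' := rb
    have ht2 : E D.t0 * E D.t0 = 1 := by
      rw [hDt]
      exact mul_self_of_check (hE 1 hC.hm1).2 hC.hb2
    have ht1 : E D.t0 ≠ 1 := by
      rw [hDt]
      intro h
      obtain ⟨q, hq, h1⟩ := hC.hb1
      apply h1
      rw [(hE 1 hC.hm1).2 q hq, h]
      rfl
    have hrel' : ∀ r ∈ rs, ∀ q < n, relAll (F 0) (F D.t0) r.1 r.2.1 q = true := by
      rw [hDt]
      exact hC.hrel
    have hAp : E 0 ^ p = 1 := by
      ext q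
      have e := (powA_spec (hE 0 hm0).2 p) q.1 q.2
      rw [hC.hAp q.1 q.2] at e
      simpa using e.symm
    exact RigidD.mk2 hE hD hm0 hgen' hbase ht2 ht1 hLc' hcen hcov
      hAp hC.hq hC.hchk hrel' hC.hgood
  · exact hcov

/-- The generators of the normalizer of the first generator. -/
theorem hnorm_of_data2 [Finite H] {E : Nat → Equiv.Perm (Fin n)}
    (hE : ∀ g < m, E g ∈ H ∧ Rp (F g) (E g)) (hm0 : 0 < m)
    (hcard : Nat.card H = N) {gc r mp : Nat} [Fact p.Prime] (hgc : gc < m)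
    (hAp : ∀ q < n, powA (F 0) p q = q) (hA1 : ∃ q < n, F 0 q ≠ q)
    (hcr : ∀ q < n, F gc (F 0 q) = powA (F 0) r (F gc q))
    (hNp : N = p * mp) (hmp : ¬ p ∣ mp) (Es : List ℕ)
    (htab : ∀ k < p, k ≠ 0 → ∃ i < p, (k * r ^ i) % p = 1 ∨ ∃ e ∈ Es, (k * r ^ i) % p = e % p) :
    ∀ A' ∈ H, orderOf A' = orderOf (E 0) →
      ∃ x ∈ H, x * A' * x⁻¹ = E 0 ∨ ∃ e ∈ Es, x * A' * x⁻¹ = E 0 ^ e := by
  have hord : orderOf (E 0) = p := by
    obtain ⟨q, hq, h1⟩ := hA1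
    exact order_of_check (hE 0 hm0).2 hAp hq h1
  exact hnorm_general (hE 0 hm0).1 (hE gc hgc).1 p r mp (by rw [hcard, hNp]) hmp hord
    (conj_of_check (hE gc hgc).2 (hE 0 hm0).2 hcr) Es htab

/-- The outer automorphism group is trivial. -/
theorem master_one2 [Finite H] (hC : Common2 n m N c a mm p F prog ds cs D S Bs Os wds rs goods)
    (hcard : Nat.card H = N) (hA : A ∈ H) (hb : b ∈ H) (rA : Rp (F 0) A) (rb : Rp (F 1) b)
    {gc r mp : Nat} [Fact p.Prime] (hgc : gc < m)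
    (hcr : ∀ q < n, F gc (F 0 q) = powA (F 0) r (F gc q))
    (hNp : N = p * mp) (hmp : ¬ p ∣ mp)
    (R2 : List (Nat × List (List Bool × Nat × Nat)))
    (htab : ∀ k < p, k ≠ 0 → ∃ i < p, (k * r ^ i) % p = 1 ∨
      ∃ e ∈ R2.map Prod.fst, (k * r ^ i) % p = e % p)
    (hR2 : ∀ x ∈ R2, (∀ r ∈ x.2, (r.1, r.2.1) ∈ rs.map (fun r => (r.1, r.2.1)) ∧ r.2.2 < n) ∧
      ∀ i < D.L, relAny (powA (F 0) x.1) (D.v F i) x.2 = true) :
    Nat.card (Out H) = 1 := by
  obtain ⟨E, hO⟩ := hC.out hcard hA hb rA rb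
  have hm0 : 0 < m := by
    have := hC.hm1
    omega
  refine hO.hR.out_one (R2.map Prod.fst)
    (hnorm_of_data2 hO.hE hm0 hcard hgc hC.hAp hC.hA1 hcr hNp hmp _ htab) ?_
  intro e he t ht hT hR
  obtain ⟨x, hx, rfl⟩ := List.mem_map.1 he
  obtain ⟨h1, h2⟩ := hR2 x hx
  obtain ⟨i, hi, rfl⟩ := hO.hcov t ht hT
  have h3 := relAny_spec (powA_spec (hO.hE 0 hm0).2 x.1) (hC.hD.rp hO.hE i)
    (fun r hr => (h1 r hr).2) (h2 i hi)
  apply h3
  intro R hR'
  obtain ⟨r, hr, rfl⟩ := List.mem_map.1 hR'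
  exact hR _ (h1 r hr).1

/-- The outer automorphism group has order two. -/
theorem master_two2 [Finite H] (hC : Common2 n m N c a mm p F prog ds cs D S Bs Os wds rs goods)
    (hcard : Nat.card H = N) (hA : A ∈ H) (hb : b ∈ H) (rA : Rp (F 0) A) (rb : Rp (F 1) b)
    {gc r mp : Nat} [Fact p.Prime] (hgc : gc < m)
    (hcr : ∀ q < n, F gc (F 0 q) = powA (F 0) r (F gc q))
    (hNp : N = p * mp) (hmp : ¬ p ∣ mp) (k : Nat)
    (htab : ∀ z < p, z ≠ 0 → ∃ i < p, (z * r ^ i) % p = 1 ∨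
      ∃ e ∈ [k], (z * r ^ i) % p = e % p)
    {gj gji i' gr : Nat} (hjinv : ∀ q < n, invOK n (F gj) (F gji) q = true)
    (hjA : ∀ q < n, F gj (powA (F 0) k q) = F 0 (F gj q))
    (hjb : ∀ q < n, F gj (D.v F i' q) = F 1 (F gj q))
    {rw : List Nat} (hrw : ∀ a ∈ rw, a < m) (hgr : ∀ q < n, F gr q = wApp F rw (F gj q))
    (hsift : (∃ pre d post, ds = pre ++ d :: post ∧ (∀ d' ∈ pre, F gr d'.b = d'.b) ∧
        d.m ≤ d.pi (F gr d.b)) ∨ ((∀ d' ∈ ds, F gr d'.b = d'.b) ∧ ∃ q < n, F gr q ≠ q))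
    {d1 d2 : LevD} {rest : List LevD} (hds2 : ds = d1 :: d2 :: rest)
    (hsurj : ∀ q < n, d1.pi q < d1.m ∧ d1.pt (d1.pi q) = q)
    (hmv : ∀ q < n, moved F d1.b d2.off d2.cnt q = true) :
    Nat.card (Out H) = 2 := by
  obtain ⟨E, hO⟩ := hC.out hcard hA hb rA rb
  have hE := hO.hE
  have hm0 : 0 < m := by
    have := hC.hm1
    omega
  have hm1 := hC.hm1
  obtain ⟨j, hj1, hj2⟩ := exists_perm hjinv
  have hnorm : ∀ A' ∈ H, orderOf A' = orderOf (E 0) →
      ∃ x ∈ H, x * A' * x⁻¹ = E 0 ∨ x * A' * x⁻¹ = E 0 ^ k := by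
    intro A' hA' ho
    obtain ⟨x, hx, h⟩ := hnorm_of_data2 hE hm0 hcard hgc hC.hAp hC.hA1 hcr hNp hmp [k] htab A' hA' ho
    refine ⟨x, hx, ?_⟩
    rcases h with h | ⟨e, he, h⟩
    · exact Or.inl h
    · simp only [List.mem_singleton] at he
      subst he
      exact Or.inr h
  -- the conjugation by `j`
  have hjAk : j * E 0 ^ k * j⁻¹ = E 0 := by
    have h1 : j * E 0 ^ k = E 0 * j := by
      ext q
      have e1 := (hj1.mul (powA_spec (hE 0 hm0).2 k)) q.1 q.2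
      have e2 := ((hE 0 hm0).2.mul hj1) q.1 q.2
      exact e1.symm.trans ((hjA q.1 q.2).trans e2)
    rw [h1]
    group
  have ht' := hC.hD.rp hE i'
  have hjt : j * D.e E i' * j⁻¹ = E 1 := by
    have h1 : j * D.e E i' = E 1 * j := by
      ext q
      have e1 := (hj1.mul ht') q.1 q.2
      have e2 := ((hE 1 hm1).2.mul hj1) q.1 q.2
      exact e1.symm.trans ((hjb q.1 q.2).trans e2)
    rw [h1]
    group
  have hgen : Subgroup.closure ({E 0, E 1} : Set (Equiv.Perm (Fin n))) = H := by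
    have := hO.hR.hgen
    rwa [hC.hDt] at this
  have hA1' : j⁻¹ * E 0 * j ∈ H := by
    have : j⁻¹ * E 0 * j = E 0 ^ k := by
      calc j⁻¹ * E 0 * j = j⁻¹ * (j * E 0 ^ k * j⁻¹) * j := by rw [hjAk]
        _ = E 0 ^ k := by group
    rw [this]
    exact H.pow_mem (hE 0 hm0).1 k
  have hb1' : j⁻¹ * E 1 * j ∈ H := by
    have : j⁻¹ * E 1 * j = D.e E i' := by
      calc j⁻¹ * E 1 * j = j⁻¹ * (j * D.e E i' * j⁻¹) * j := by rw [hjt]
        _ = D.e E i' := by group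
    rw [this]
    exact hC.hD.mem hE i'
  obtain ⟨hjH, hjH'⟩ := norm_of_gens hgen hA1' hb1'
  -- j is not in the group
  have hjn : j ∉ H := by
    intro hjm
    have hwm : wEl E rw ∈ H := wEl_mem fun a ha => (hE a (hrw a ha)).1
    have hrm : wEl E rw * j ∈ H := H.mul_mem hwm hjm
    have hrp : Rp (F gr) (wEl E rw * j) :=
      rp_word_mul (fun a ha => (hE a (hrw a ha)).2) hj1 hgr
    have hvl : ∀ y (hy : y < n), (wEl E rw * j) (mkF hC.hn y) = mkF hC.hn (F gr y) := by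
      intro y hy
      rw [← mk_eq_mkF hC.hn hy, hrp.apply]
      apply Fin.ext
      exact (mkF_val hC.hn (hrp.lt hy)).symm
    have hdb : ∀ d ∈ ds, d.b < n := by
      have : ∀ (ds : List LevD) (l : List Nat), LevsC n m F l ds → ∀ d ∈ ds, d.b < n := by
        intro ds
        induction ds with
        | nil => intro _ _ d hd; simp at hd
        | cons e ds ih =>
          intro l h d hd
          rcases List.mem_cons.1 hd with rfl | hd
          · exact h.2.2.2.2.1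
          · exact ih _ h.2.2.2.2.2 d hd
      exact this ds [] hC.hds
    rcases hsift with ⟨pre, d, post, hsplit, h1, h2⟩ | ⟨h1, q, hq, h2⟩
    · subst hsplit
      have h3 := sift_level pre [] hO.hlev hO.hex _ hrm (by simp) (fun d' hd' => by
        have hd'm : d' ∈ pre ++ d :: post := List.mem_append_left _ hd'
        rw [hvl _ (hdb d' hd'm), h1 d' hd'])
      have hdm : d ∈ pre ++ d :: post := List.mem_append_right _ List.mem_cons_self
      rw [hvl _ (hdb d hdm), mkF_val hC.hn (hrp.lt (hdb d hdm))] at h3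
      omega
    · have h3 : wEl E rw * j = 1 := by
        refine hO.hbase _ hrm _ H.one_mem fun y hy hy' => ?_
        rw [hC.hBs] at hy
        obtain ⟨d, hd, rfl⟩ := List.mem_map.1 hy
        apply Fin.ext
        rw [← hrp _ hy', h1 d hd]
        rfl
      apply h2
      rw [hrp q hq, h3]
      rfl
  subst hds2
  have hcen := hcen_of_levels hO.hlev hsurj hmv
  exact hO.hR.out_two k hnorm hjH hjH' hjAk (hout_of_not_mem hcen hjn)

end

end Cfsg.Agent.Lib.PermComp.OutP
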