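import Cfsg.Agent.Lib.PermComp.OutP.Master2

/-!
# The centralizer of an element of a permutation group, up to isomorphism

The upper bound for the centralizer comes from a list of conjugates (a forest).  An isomorphism with a
group given by generators comes from the order of the subgroup generated by the pairs.
-/

set_option autoImplicit false

namespace Cfsg.Agent.Lib.PermComp.OutP

open Cfsg Cfsg.Agent.Lib.Golay.OutAbs
open Cfsg.Agent.Lib.PermComp.Core (force force_eq ifB ifB_eq_true allL allL_eq_true memN memN_eq_true)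

section Pair

variable {A B ι : Type*} [Group A] [Group B]

/-- The subgroup generated by a family. -/
def famCl (a : ι → A) : Subgroup A := Subgroup.closure (Set.range a)

/-- The subgroup generated by a family of pairs. -/
def pairCl (a : ι → A) (b : ι → B) : Subgroup (A × B) :=
  Subgroup.closure (Set.range fun i => (a i, b i))

theorem map_fst_pairCl (a : ι → A) (b : ι → B) :
    (pairCl a b).map (MonoidHom.fst A B) = famCl a := by
  rw [pairCl, famCl, MonoidHom.map_closure, ← Set.range_comp]
  rfl

theorem map_snd_pairCl (a : ι → A) (b : ι → B) :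
    (pairCl a b).map (MonoidHom.snd A B) = famCl b := by
  rw [pairCl, famCl, MonoidHom.map_closure, ← Set.range_comp]
  rfl

/-- The first projection, onto the subgroup generated by the first components. -/
def pairFst (a : ι → A) (b : ι → B) : pairCl a b →* famCl a where
  toFun x := ⟨x.1.1, by rw [← map_fst_pairCl a b]; exact ⟨x.1, x.2, rfl⟩⟩
  map_one' := rfl
  map_mul' _ _ := rfl

/-- The second projection, onto the subgroup generated by the second components. -/
def pairSnd (a : ι → A) (b : ι → B) : pairCl a b →* famCl b where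
  toFun x := ⟨x.1.2, by rw [← map_snd_pairCl a b]; exact ⟨x.1, x.2, rfl⟩⟩
  map_one' := rfl
  map_mul' _ _ := rfl

theorem pairFst_surj (a : ι → A) (b : ι → B) : Function.Surjective (pairFst a b) := by
  rintro ⟨y, hy⟩
  rw [← map_fst_pairCl a b] at hy
  obtain ⟨x, hx, rfl⟩ := hy
  exact ⟨⟨x, hx⟩, rfl⟩

theorem pairSnd_surj (a : ι → A) (b : ι → B) : Function.Surjective (pairSnd a b) := by
  rintro ⟨y, hy⟩
  rw [← map_snd_pairCl a b] at hy
  obtain ⟨x, hx, rfl⟩ := hy
  exact ⟨⟨x, hx⟩, rfl⟩

/-- Two groups generated by corresponding families are isomorphic when the group generated by the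
pairs is not bigger than both. -/
theorem iso_of_pair [Finite A] [Finite B] (a : ι → A) (b : ι → B) {c : ℕ}
    (hD : Nat.card (pairCl a b) ≤ c) (ha : c ≤ Nat.card (famCl a)) (hb : c ≤ Nat.card (famCl b)) :
    Nonempty (famCl a ≃* famCl b) := by
  have h1 : Function.Bijective (pairFst a b) :=
    (pairFst_surj a b).bijective_of_nat_card_le (hD.trans ha)
  have h2 : Function.Bijective (pairSnd a b) :=
    (pairSnd_surj a b).bijective_of_nat_card_le (hD.trans hb)
  exact ⟨(MulEquiv.ofBijective _ h1).symm.trans (MulEquiv.ofBijective _ h2)⟩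

end Pair

section Cent

variable {Γ : Type*} [Group Γ]

/-- The centralizer in a subgroup, in two forms. -/
def centEquiv (H : Subgroup Γ) {t : Γ} (ht : t ∈ H) :
    Subgroup.centralizer {(⟨t, ht⟩ : H)} ≃* (H ⊓ Subgroup.centralizer ({t} : Set Γ) : Subgroup Γ) where
  toFun x := ⟨x.1.1, x.1.2, by
    have h := Subgroup.mem_centralizer_singleton_iff.1 x.2
    exact Subgroup.mem_centralizer_singleton_iff.2 (congrArg Subtype.val h)⟩
  invFun x := ⟨⟨x.1, x.2.1⟩, by
    have h := Subgroup.mem_centralizer_singleton_iff.1 x.2.2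
    exact Subgroup.mem_centralizer_singleton_iff.2 (Subtype.ext h)⟩
  left_inv x := rfl
  right_inv x := rfl
  map_mul' x y := rfl

/-- An isomorphism carries the centralizer of an element to the centralizer of its image. -/
def centCongr {G G' : Type*} [Group G] [Group G'] (e : G ≃* G') (x : G) :
    Subgroup.centralizer {x} ≃* Subgroup.centralizer {e x} where
  toFun y := ⟨e y.1, by
    have h := Subgroup.mem_centralizer_singleton_iff.1 y.2
    refine Subgroup.mem_centralizer_singleton_iff.2 ?_
    rw [← map_mul, ← map_mul, h]⟩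
  invFun y := ⟨e.symm y.1, by
    have h := Subgroup.mem_centralizer_singleton_iff.1 y.2
    refine Subgroup.mem_centralizer_singleton_iff.2 ?_
    apply e.injective
    rw [map_mul, map_mul, e.apply_symm_apply, h]⟩
  left_inv y := Subtype.ext (e.symm_apply_apply _)
  right_inv y := Subtype.ext (e.apply_symm_apply _)
  map_mul' y y' := Subtype.ext (map_mul e _ _)

/-- An isomorphism to the centralizer of an element of a group, from one of its image. -/
theorem cent_transfer {G G' : Type*} [Group G] [Group G'] (e : G ≃* G') (w : G') {K : Type*} [Group K]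
    (h : Nonempty (Subgroup.centralizer {w} ≃* K)) :
    Nonempty (Subgroup.centralizer {e.symm w} ≃* K) := by
  obtain ⟨h⟩ := h
  have e1 : e (e.symm w) = w := e.apply_symm_apply w
  exact ⟨(centCongr e (e.symm w)).trans ((MulEquiv.subgroupCongr (by rw [e1])).trans h)⟩

/-- An upper bound of the centralizer from a list of conjugates. -/
theorem card_cent_le {H : Subgroup Γ} [Finite H] {t : Γ} (ht : t ∈ H) {L c : ℕ}
    (hLc : c * L = Nat.card H) (hL : 0 < L) (f : ℕ → Γ)
    (hf : ∀ i < L, ∃ g ∈ H, f i = g * t * g⁻¹)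
    (hinj : ∀ i < L, ∀ j < L, f i = f j → i = j) :
    Nat.card (H ⊓ Subgroup.centralizer ({t} : Set Γ) : Subgroup Γ) ≤ c := by
  have h1 := card_cent_mul ht
  have h2 := orbit_ge ht f hf hinj
  rw [← Nat.card_congr (centEquiv H ht).toEquiv]
  by_contra hc
  rw [not_le] at hc
  have h3 : c * L < Nat.card (Subgroup.centralizer {(⟨t, ht⟩ : H)}) * L :=
    Nat.mul_lt_mul_of_pos_right hc hL
  have h4 := Nat.mul_le_mul_left (Nat.card (Subgroup.centralizer {(⟨t, ht⟩ : H)})) h2
  omega

end Cent

section Main

variable {n m : Nat} {F : Nat → Nat → Nat} {E : Nat → Equiv.Perm (Fin n)}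
  {H : Subgroup (Equiv.Perm (Fin n))}

/-- A subgroup acts on an invariant set of points as a group of permutations of its numbers: the
first projection is injective on the pairs. -/
theorem card_pair_le {s t : Nat} (x : Fin t → Equiv.Perm (Fin n)) (a : Fin t → Equiv.Perm (Fin s))
    (om : Fin s → Fin n) (hom : Function.Injective om)
    (hact : ∀ i j, x i (om j) = om (a i j)) :
    Nat.card (pairCl x a) ≤ Nat.card (famCl x) := by
  have hinv : ∀ y ∈ pairCl x a, ∀ j, y.1 (om j) = om (y.2 j) := by
    intro y hy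
    induction hy using Subgroup.closure_induction with
    | mem y hy =>
      obtain ⟨i, rfl⟩ := hy
      exact fun j => hact i j
    | one => exact fun j => rfl
    | mul y y' _ _ h h' =>
      intro j
      simp only [Prod.fst_mul, Prod.snd_mul, Equiv.Perm.mul_apply]
      rw [h', h]
    | inv y _ h =>
      intro j
      simp only [Prod.fst_inv, Prod.snd_inv]
      have e := h (y.2⁻¹ j)
      have e2 : y.2 (y.2⁻¹ j) = j := by simp
      rw [e2] at e
      rw [← e]
      simp
  have hinj : Function.Injective (pairFst x a) := by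
    rw [injective_iff_map_eq_one]
    rintro ⟨y, hy⟩ h
    have h1 : y.1 = 1 := by simpa [pairFst] using congrArg Subtype.val h
    have h2 : y.2 = 1 := by
      ext j
      have e := hinv y hy j
      rw [h1] at e
      have e2 := hom e
      simpa using congrArg Fin.val e2.symm
    apply Subtype.ext
    exact Prod.ext h1 h2
  exact Nat.card_le_card_of_injective _ hinj

/-- The main theorem: the centralizer of the root of a forest is the group generated by some elements
commuting with the root, and it is isomorphic to a given group. -/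
theorem cent_iso [Finite H] {D : Frs} (hE : ∀ g < m, E g ∈ H ∧ Rp (F g) (E g)) (hD : D.OK n m F)
    {c : ℕ} (hLc : c * D.L = Nat.card H) (hL : 0 < D.L)
    {t : Nat} (gk : Fin t → Nat) (hgk : ∀ i, gk i < m)
    (hcomm : ∀ i, ∀ q < n, F (gk i) (F D.t0 q) = F D.t0 (F (gk i) q))
    {s : Nat} (om : Fin s → Fin n) (hom : Function.Injective om)
    (a : Fin t → Equiv.Perm (Fin s)) (hact : ∀ i j, E (gk i) (om j) = om (a i j))
    {β : Type*} [Finite β] (b : Fin t → Equiv.Perm β)
    (hP : Nat.card (pairCl a b) ≤ c) (hR : c ≤ Nat.card (famCl a)) (hM : c ≤ Nat.card (famCl b)) :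
    Nonempty (Subgroup.centralizer {(⟨E D.t0, (hE _ hD.ht0).1⟩ : H)} ≃* famCl b) := by
  have ht0 := hE _ hD.ht0
  let x : Fin t → Equiv.Perm (Fin n) := fun i => E (gk i)
  have hle : famCl x ≤ H ⊓ Subgroup.centralizer ({E D.t0} : Set (Equiv.Perm (Fin n))) := by
    apply (Subgroup.closure_le _).2
    rintro _ ⟨i, rfl⟩
    have h1 := hE _ (hgk i)
    refine ⟨h1.1, Subgroup.mem_centralizer_singleton_iff.2 ?_⟩
    ext q
    have e1 := (h1.2.mul ht0.2) q.1 q.2
    have e2 := (ht0.2.mul h1.2) q.1 q.2
    simp only [Equiv.Perm.mul_apply] at e1 e2 ⊢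
    rw [← e1, ← e2]
    exact hcomm i q.1 q.2
  have hub := card_cent_le ht0.1 hLc hL (D.e E) (fun i _ => hD.conj hE i) (hD.inj hE)
  have hQ := card_pair_le x a om hom hact
  have h2 : Nat.card (famCl a) ≤ Nat.card (pairCl x a) :=
    Nat.card_le_card_of_surjective _ (pairSnd_surj x a)
  have h3 : Nat.card (famCl x) ≤
      Nat.card (H ⊓ Subgroup.centralizer ({E D.t0} : Set (Equiv.Perm (Fin n))) : Subgroup _) :=
    Subgroup.card_le_of_le hle
  have h4 : c ≤ Nat.card (famCl x) := hR.trans (h2.trans hQ)
  have h5 : Nat.card (pairCl x a) ≤ c := hQ.trans (h3.trans hub)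
  have h6 : famCl x = H ⊓ Subgroup.centralizer ({E D.t0} : Set (Equiv.Perm (Fin n))) :=
    Subgroup.eq_of_le_of_card_ge hle (hub.trans h4)
  obtain ⟨e1⟩ := iso_of_pair x a h5 h4 hR
  obtain ⟨e2⟩ := iso_of_pair a b hP hR hM
  refine ⟨(centEquiv H ht0.1).trans ((MulEquiv.subgroupCongr h6.symm).trans (e1.trans e2))⟩

end Main

section Codes

open Cfsg.Agent.Lib.PermComp.Core

variable {α : Type*} [Finite α] {N w mask L maskL idc : Nat} {e : α ≃ Fin N}

/-- The order of a group generated by a family, from a certificate. -/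
theorem card_famCl_of_check {t : Nat} (a : Fin t → Equiv.Perm α) (c : Fin t → Nat)
    (hrep : ∀ i, Rep w mask e (c i) (a i)) {prog : List (Nat × Nat × Nat)} {ls : List Lev}
    (hc : checkAll N w mask L maskL idc (List.ofFn c) prog ls = true) :
    Nat.card (famCl a) = orderC ls := by
  obtain ⟨-, -, -, -, -, h⟩ := main_of_checkAll (e := e) (T := List.ofFn c) (fun x hx => by
    obtain ⟨i, rfl⟩ := (List.mem_ofFn' c x).1 hx
    exact ⟨_, hrep i⟩) hc
  rw [← h]
  have : H w mask e (List.ofFn c) = famCl a := by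
    apply H_eq_closure
    · intro x hx
      obtain ⟨i, rfl⟩ := (List.mem_ofFn' c x).1 hx
      exact ⟨_, ⟨i, rfl⟩, hrep i⟩
    · rintro _ ⟨i, rfl⟩
      exact ⟨c i, (List.mem_ofFn' c _).2 ⟨i, rfl⟩, hrep i⟩
  rw [this]

/-- The order of the group generated by the pairs, from a certificate on the disjoint union. -/
theorem card_pairCl_of_check {α' β : Type*} [Finite α'] [Finite β] {s k : Nat} {e1 : α' ≃ Fin s}
    {e2 : β ≃ Fin k} {t : Nat} (a : Fin t → Equiv.Perm α') (b : Fin t → Equiv.Perm β)
    (d : Fin t → Nat) (r : Fin t → Nat) (mc : Fin t → Nat) {w mask L maskL idc : Nat}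
    (hra : ∀ i, Rep w mask e1 (r i) (a i)) (hrb : ∀ i, Rep w mask e2 (mc i) (b i))
    (hd1 : ∀ i, ∀ j < s, app w mask (d i) j = app w mask (r i) j)
    (hd2 : ∀ i, ∀ j < k, app w mask (d i) (s + j) = s + app w mask (mc i) j)
    {prog : List (Nat × Nat × Nat)} {ls : List Lev}
    (hc : checkAll (s + k) w mask L maskL idc (List.ofFn d) prog ls = true) :
    Nat.card (pairCl a b) = orderC ls := by
  let E' : α' ⊕ β ≃ Fin (s + k) := (Equiv.sumCongr e1 e2).trans finSumFinEquiv
  let f : Fin t → Equiv.Perm (α' ⊕ β) := fun i => Equiv.Perm.sumCongrHom α' β (a i, b i)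
  have hrep : ∀ i, Rep w mask E' (d i) (f i) := by
    intro i x
    rcases x with x | x
    · simp only [E', f, Equiv.trans_apply, Equiv.sumCongr_apply, Sum.map_inl, finSumFinEquiv_apply_left,
        Equiv.Perm.sumCongrHom_apply, Fin.val_castAdd]
      rw [hd1 i _ (e1 x).2, hra i x]
    · simp only [E', f, Equiv.trans_apply, Equiv.sumCongr_apply, Sum.map_inr, finSumFinEquiv_apply_right,
        Equiv.Perm.sumCongrHom_apply, Fin.val_natAdd]
      rw [hd2 i _ (e2 x).2, hrb i x]
  have h1 := card_famCl_of_check (e := E') f d hrep hc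
  rw [← h1]
  have hmap : (pairCl a b).map (Equiv.Perm.sumCongrHom α' β) = famCl f := by
    rw [pairCl, famCl, MonoidHom.map_closure, ← Set.range_comp]
    rfl
  rw [← hmap]
  exact (Subgroup.card_map_of_injective (Equiv.Perm.sumCongrHom_injective)).symm

/-- The main theorem, with certificates. -/
theorem cent_iso_codes {n m : Nat} {F : Nat → Nat → Nat} {E : Nat → Equiv.Perm (Fin n)}
    {H : Subgroup (Equiv.Perm (Fin n))} [Finite H] {D : Frs}
    (hE : ∀ g < m, E g ∈ H ∧ Rp (F g) (E g)) (hD : D.OK n m F)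
    {c : ℕ} (hLc : c * D.L = Nat.card H) (hL : 0 < D.L)
    {t : Nat} (gk : Fin t → Nat) (hgk : ∀ i, gk i < m)
    (hcomm : ∀ i, ∀ q < n, F (gk i) (F D.t0 q) = F D.t0 (F (gk i) q))
    {s k W mask L1 maskL1 idc1 L2 maskL2 idc2 L3 maskL3 idc3 : Nat}
    (om oi : Nat → Nat) (hom : ∀ j < s, om j < n ∧ oi (om j) = j)
    (rc mc dc : Fin t → Nat)
    (hrc : ∀ i, ∀ j < s, app W mask (rc i) j < s ∧ F (gk i) (om j) = om (app W mask (rc i) j))
    (hd1 : ∀ i, ∀ j < s, app W mask (dc i) j = app W mask (rc i) j)
    (hd2 : ∀ i, ∀ j < k, app W mask (dc i) (s + j) = s + app W mask (mc i) j)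
    {β : Type*} [Finite β] (e2 : β ≃ Fin k) (b : Fin t → Equiv.Perm β)
    (hrb : ∀ i, Rep W mask e2 (mc i) (b i))
    {p1 p2 p3 : List (Nat × Nat × Nat)} {ls1 ls2 ls3 : List Lev}
    (c1 : checkAll s W mask L1 maskL1 idc1 (List.ofFn rc) p1 ls1 = true) (h1 : orderC ls1 = c)
    (c2 : checkAll k W mask L2 maskL2 idc2 (List.ofFn mc) p2 ls2 = true) (h2 : orderC ls2 = c)
    (c3 : checkAll (s + k) W mask L3 maskL3 idc3 (List.ofFn dc) p3 ls3 = true) (h3 : orderC ls3 = c) :
    Nonempty (Subgroup.centralizer {(⟨E D.t0, (hE _ hD.ht0).1⟩ : H)} ≃* famCl b) := by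
  -- the points
  have hom' : ∀ j : Fin s, om j < n := fun j => (hom j j.2).1
  let omF : Fin s → Fin n := fun j => ⟨om j, hom' j⟩
  have hominj : Function.Injective omF := by
    intro x y hxy
    have e : om x = om y := congrArg Fin.val hxy
    apply Fin.ext
    rw [← (hom x x.2).2, ← (hom y y.2).2, e]
  -- the permutations of the points
  have hact0 : ∀ i, ∀ j : Fin s, E (gk i) (omF j) =
      omF ⟨app W mask (rc i) j, (hrc i j j.2).1⟩ := by
    intro i j
    have h4 := (hE _ (hgk i)).2 (om j) (hom' j)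
    apply Fin.ext
    rw [← h4]
    exact (hrc i j j.2).2
  let f : Fin t → Fin s → Fin s := fun i j => ⟨app W mask (rc i) j, (hrc i j j.2).1⟩
  have hfinj : ∀ i, Function.Injective (f i) := by
    intro i x y hxy
    apply hominj
    have h4 := hact0 i x
    have h5 := hact0 i y
    have h6 : E (gk i) (omF x) = E (gk i) (omF y) := by
      rw [h4, h5]
      exact congrArg omF hxy
    exact (E (gk i)).injective h6
  let a : Fin t → Equiv.Perm (Fin s) := fun i =>
    Equiv.ofBijective (f i) (Finite.injective_iff_bijective.1 (hfinj i))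
  have hact : ∀ i j, E (gk i) (omF j) = omF (a i j) := hact0
  have hra : ∀ i, Rep W mask (Equiv.refl (Fin s)) (rc i) (a i) := fun i j => rfl
  have hR : Nat.card (famCl a) = orderC ls1 := card_famCl_of_check (e := Equiv.refl (Fin s)) a rc hra c1
  have hM : Nat.card (famCl b) = orderC ls2 := card_famCl_of_check (e := e2) b mc hrb c2
  have hP : Nat.card (pairCl a b) = orderC ls3 :=
    card_pairCl_of_check (e1 := Equiv.refl (Fin s)) (e2 := e2) a b dc rc mc hra hrb hd1 hd2 c3
  exact cent_iso hE hD hLc hL gk hgk hcomm omF hominj a hact b (by rw [hP, h3]) (by rw [hR, h1])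
    (by rw [hM, h2])

end Codes

end Cfsg.Agent.Lib.PermComp.OutP
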