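import Cfsg.Agent.Lib.PermComp.OutP.CentIso
import Cfsg.Agent.Lib.PGroups.Special

/-!
# The structure of a centralizer of an involution in a permutation group

The centralizer is found inside a small permutation group `famCl a`; a homomorphism onto another small
group comes from a certificate for the generated group of pairs; and a small normal subgroup is handled
by its multiplication table.
-/

set_option autoImplicit false

namespace Cfsg.Agent.Lib.PermComp.OutP

open Cfsg Cfsg.Agent.Lib.Golay.OutAbs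
open Cfsg.Agent.Lib.PermComp.Core (force force_eq ifB ifB_eq_true allL allL_eq_true memN memN_eq_true)
open scoped commutatorElement

section Word

variable {A B ι : Type*} [Group A] [Group B]

/-- The value of a word in a family. -/
def wordEl (a : ι → A) (w : List ι) : A := (w.map a).prod

theorem wordEl_mem (a : ι → A) (w : List ι) : wordEl a w ∈ famCl a := by
  apply Subgroup.list_prod_mem
  intro x hx
  obtain ⟨g, _, rfl⟩ := List.mem_map.1 hx
  exact Subgroup.subset_closure ⟨g, rfl⟩

theorem wordEl_pair (a : ι → A) (b : ι → B) (w : List ι) :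
    (wordEl a w, wordEl b w) ∈ pairCl a b := by
  induction w with
  | nil => exact (pairCl a b).one_mem
  | cons g w ih =>
    have h : (a g, b g) ∈ pairCl a b := Subgroup.subset_closure ⟨g, rfl⟩
    exact (pairCl a b).mul_mem h ih

/-- A homomorphism between the groups generated by two families, when the group generated by the pairs
is not bigger than the first one. -/
theorem hom_of_pair [Finite A] [Finite B] (a : ι → A) (b : ι → B)
    (hP : Nat.card (pairCl a b) ≤ Nat.card (famCl a)) :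
    ∃ ψ : famCl a →* famCl b, Function.Surjective ψ ∧
      ∀ w : List ι, (ψ ⟨wordEl a w, wordEl_mem a w⟩ : B) = wordEl b w := by
  have h1 : Function.Bijective (pairFst a b) := (pairFst_surj a b).bijective_of_nat_card_le hP
  let e := MulEquiv.ofBijective (pairFst a b) h1
  refine ⟨(pairSnd a b).comp e.symm.toMonoidHom, ?_, ?_⟩
  · intro y
    obtain ⟨x, hx⟩ := pairSnd_surj a b y
    refine ⟨e x, ?_⟩
    simp only [MonoidHom.comp_apply]
    rw [← hx]
    congr 1
    exact e.symm_apply_apply x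
  · intro w
    have h2 : e.symm ⟨wordEl a w, wordEl_mem a w⟩ = ⟨_, wordEl_pair a b w⟩ := by
      rw [MulEquiv.symm_apply_eq]
      rfl
    simp only [MonoidHom.comp_apply]
    change ((pairSnd a b) (e.symm ⟨wordEl a w, wordEl_mem a w⟩) : B) = _
    rw [h2]
    rfl

end Word

section Tab

variable {G : Type*} [Group G] {k : ℕ}

/-- A finite group with a multiplication table. -/
structure MT (q : Fin k → G) (mt : Fin k → Fin k → Fin k) : Prop where
  bij : Function.Bijective q
  mul : ∀ i j, q (mt i j) = q i * q j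

variable {q : Fin k → G} {mt : Fin k → Fin k → Fin k}

theorem MT.one (h : MT q mt) {id : Fin k} (hid : mt id id = id) : q id = 1 := by
  have h1 := h.mul id id
  rw [hid] at h1
  exact (mul_eq_left.1 h1.symm)

theorem MT.card (h : MT q mt) : Nat.card G = k := by
  rw [← Nat.card_congr (Equiv.ofBijective q h.bij), Nat.card_eq_fintype_card, Fintype.card_fin]

/-- The extraspecial property from the table. -/
theorem MT.isExtraspecial (h : MT q mt) {a : ℕ} (hk : k = 2 ^ a) (id z : Fin k) (hid : mt id id = id)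
    (hz : z ≠ id)
    (h1 : ∀ i j, mt i j = mt j i ∨ mt i j = mt z (mt j i))
    (h2 : ∀ i, mt i i = id ∨ mt i i = z)
    (h3 : ∀ i, (∀ j, mt i j = mt j i) → i = id ∨ i = z)
    (h4 : ∀ j, mt z j = mt j z)
    (i0 j0 : Fin k) (h6 : mt i0 j0 ≠ mt j0 i0) : IsExtraspecial 2 G := by
  classical
  have : Fact (Nat.Prime 2) := ⟨Nat.prime_two⟩
  have : Finite G := Finite.of_surjective q h.bij.2
  have hone := h.one hid
  have hzc : q z ∈ Subgroup.center G := by
    rw [Subgroup.mem_center_iff]
    intro g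
    obtain ⟨j, rfl⟩ := h.bij.2 g
    rw [← h.mul, ← h.mul, h4]
  have hz1 : q z ≠ 1 := fun e => hz (h.bij.1 (e.trans hone.symm))
  have hcen : ∀ x, x ∈ Subgroup.center G ↔ x = 1 ∨ x = q z := by
    intro x
    constructor
    · intro hx
      obtain ⟨i, rfl⟩ := h.bij.2 x
      rw [Subgroup.mem_center_iff] at hx
      have : ∀ j, mt i j = mt j i := by
        intro j
        apply h.bij.1
        rw [h.mul, h.mul]
        exact (hx (q j)).symm
      rcases h3 i this with rfl | rfl
      · exact Or.inl hone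
      · exact Or.inr rfl
    · rintro (rfl | rfl)
      · exact Subgroup.one_mem _
      · exact hzc
  refine Cfsg.Agent.Lib.PGroups.Special.ExtraLike.isExtraspecial ⟨?_, ?_, ?_, ?_⟩ ?_
  · apply IsPGroup.of_card (n := a)
    rw [h.card, hk]
  · have hS : (Subgroup.center G : Set G) = {1, q z} := by
      ext x
      simpa using hcen x
    have e1 : Nat.card (Subgroup.center G) = Nat.card (({1, q z} : Set G)) := by
      rw [← hS]
      rfl
    rw [e1, Nat.card_coe_set_eq, Set.ncard_pair (Ne.symm hz1)]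
  · intro x y
    obtain ⟨i, rfl⟩ := h.bij.2 x
    obtain ⟨j, rfl⟩ := h.bij.2 y
    rcases h1 i j with e | e
    · have e2 : q i * q j = q j * q i := by
        rw [← h.mul, ← h.mul, e]
      have : ⁅q i, q j⁆ = 1 := commutatorElement_eq_one_iff_mul_comm.2 e2
      rw [this]
      exact Subgroup.one_mem _
    · have e2 : q i * q j = q z * (q j * q i) := by
        rw [← h.mul, ← h.mul, ← h.mul, e]
      have : ⁅q i, q j⁆ = q z := by
        rw [commutatorElement_def, e2]
        group
      rw [this]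
      exact hzc
  · intro x
    obtain ⟨i, rfl⟩ := h.bij.2 x
    rw [pow_two, ← h.mul]
    rcases h2 i with e | e
    · rw [e, hone]
      exact Subgroup.one_mem _
    · rw [e]
      exact hzc
  · intro hc
    apply h6
    apply h.bij.1
    rw [h.mul, h.mul]
    exact hc.is_comm.comm _ _

/-- A subgroup with more than `l.length` elements has an element outside the list. -/
theorem exists_mem_not_in {E : Subgroup G} [Finite E] (l : List G) (h : l.length < Nat.card E) :
    ∃ x ∈ E, x ∉ l := by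
  classical
  by_contra hc
  simp only [not_exists, not_and, not_not] at hc
  have hinj : Function.Injective (fun x : E => (⟨x.1, List.mem_toFinset.2 (hc x.1 x.2)⟩ : l.toFinset)) := by
    intro x y hxy
    exact Subtype.ext (congrArg (fun z : l.toFinset => (z : G)) hxy)
  have h1 := Nat.card_le_card_of_injective _ hinj
  rw [Nat.card_eq_fintype_card (α := l.toFinset), Fintype.card_coe] at h1
  have h2 := List.toFinset_card_le l
  omega

/-- The bound for the elementary abelian subgroups from the table. -/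
theorem MT.ea_le (h : MT q mt) (id : Fin k) (hid : mt id id = id)
    (h7 : ∀ a, mt a a = id → a ≠ id → ∀ b, mt b b = id → b ≠ id → b ≠ a → mt a b = mt b a →
      ∀ c, mt c c = id → c ≠ id → c ≠ a → c ≠ b → c ≠ mt a b → mt a c = mt c a → mt b c = mt c b → False)
    (E : Subgroup G) (hE : IsElementaryAbelian 2 E) : Nat.card E ≤ 2 ^ 2 := by
  have : Finite G := Finite.of_surjective q h.bij.2
  have hone := h.one hid
  by_contra hc
  have hc' : 4 < Nat.card E := by
    have : (2 : ℕ) ^ 2 = 4 := by norm_num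
    omega
  have hcomm := hE.1
  have hcm : ∀ x ∈ E, ∀ y ∈ E, x * y = y * x := by
    intro x hx y hy
    have := hcomm.is_comm.comm (⟨x, hx⟩ : E) ⟨y, hy⟩
    exact congrArg Subtype.val this
  have hsq : ∀ i, q i ∈ E → mt i i = id := by
    intro i hi
    apply h.bij.1
    rw [h.mul, hone, ← pow_two]
    exact hE.2 _ hi
  obtain ⟨x, hx, hx1⟩ := exists_mem_not_in (E := E) [1] (by simp; omega)
  obtain ⟨y, hy, hy1⟩ := exists_mem_not_in (E := E) [1, x] (by simp; omega)
  obtain ⟨z, hz, hz1⟩ := exists_mem_not_in (E := E) [1, x, y, x * y] (by simp; omega)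
  simp only [List.mem_cons, List.not_mem_nil, or_false, not_or] at hx1 hy1 hz1
  obtain ⟨a, rfl⟩ := h.bij.2 x
  obtain ⟨b, rfl⟩ := h.bij.2 y
  obtain ⟨c, rfl⟩ := h.bij.2 z
  refine h7 a (hsq a hx) ?_ b (hsq b hy) ?_ ?_ ?_ c (hsq c hz) ?_ ?_ ?_ ?_ ?_ ?_
  · rintro rfl
    exact hx1 hone
  · rintro rfl
    exact hy1.1 hone
  · rintro rfl
    exact hy1.2 rfl
  · apply h.bij.1
    rw [h.mul, h.mul]
    exact hcm _ hx _ hy
  · rintro rfl
    exact hz1.1 hone
  · rintro rfl
    exact hz1.2.1 rfl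
  · rintro rfl
    exact hz1.2.2.1 rfl
  · rintro rfl
    exact hz1.2.2.2 (h.mul a b)
  · apply h.bij.1
    rw [h.mul, h.mul]
    exact hcm _ hx _ hz
  · apply h.bij.1
    rw [h.mul, h.mul]
    exact hcm _ hy _ hz

end Tab

section Shape

variable {A : Type*}

/-- The table of the kernel of a homomorphism. -/
theorem mt_ker {C : Type*} [Group C] [Group A] [Finite C] (f : C →* A) (hf : Function.Surjective f) {k : ℕ} (q : Fin k → C)
    (hq1 : ∀ i, f (q i) = 1) (hinj : Function.Injective q)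
    (hcard : Nat.card C = k * Nat.card A) (mt : Fin k → Fin k → Fin k)
    (hm : ∀ i j, q (mt i j) = q i * q j) :
    Nat.card f.ker = k ∧ MT (fun i => (⟨q i, hq1 i⟩ : f.ker)) mt := by
  have h1 : Nat.card C = Nat.card f.ker * Nat.card A := by
    have e : (C ⧸ f.ker) ≃* A := QuotientGroup.quotientKerEquivOfSurjective f hf
    have h2 := Subgroup.card_eq_card_quotient_mul_card_subgroup f.ker
    rw [Nat.card_congr e.toEquiv] at h2
    rw [h2, mul_comm]
  have hA : 0 < Nat.card A := Nat.card_pos_iff.2 ⟨⟨1⟩, Finite.of_surjective f hf⟩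
  have h3 : Nat.card f.ker = k := by
    rw [hcard] at h1
    exact (Nat.eq_of_mul_eq_mul_right hA h1).symm
  refine ⟨h3, ?_, fun i j => Subtype.ext (hm i j)⟩
  have hinj' : Function.Injective (fun i => (⟨q i, hq1 i⟩ : f.ker)) := by
    intro i j hij
    exact hinj (congrArg Subtype.val hij)
  refine (Function.Injective.bijective_of_nat_card_le hinj' ?_)
  rw [h3, Nat.card_eq_fintype_card, Fintype.card_fin]

/-- A subgroup meeting the kernel trivially, with the order of the image, is a complement. -/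
theorem ker_complement {C : Type*} [Group C] [Group A] [Finite C] (f : C →* A) (hf : Function.Surjective f) (H : Subgroup C)
    (hH : ∀ x ∈ H, f x = 1 → x = 1) (hHc : Nat.card H = Nat.card A) :
    f.ker.IsComplement' H := by
  apply Subgroup.isComplement'_of_card_mul_and_disjoint
  · have e : (C ⧸ f.ker) ≃* A := QuotientGroup.quotientKerEquivOfSurjective f hf
    have h2 := Subgroup.card_eq_card_quotient_mul_card_subgroup f.ker
    rw [Nat.card_congr e.toEquiv] at h2
    rw [h2, hHc, mul_comm]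
  · rw [Subgroup.disjoint_def]
    intro x hx hxH
    exact hH x hxH hx

/-- The structure of a group, from a table of a normal subgroup and a complement. -/
theorem shape_of_hom {C K : Type*} [Group C] [Group K] [Group A] [Finite K] (φ : C ≃* K) (ψ : K →* A)
    (hψ : Function.Surjective ψ) {k a : ℕ} (hk : k = 2 ^ a) (qK : Fin k → K)
    (hq1 : ∀ i, ψ (qK i) = 1) (hinj : Function.Injective qK)
    (hcard : Nat.card K = k * Nat.card A) (mt : Fin k → Fin k → Fin k)
    (hm : ∀ i j, qK (mt i j) = qK i * qK j) (id z : Fin k) (hid : mt id id = id) (hz : z ≠ id)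
    (h1 : ∀ i j, mt i j = mt j i ∨ mt i j = mt z (mt j i))
    (h2 : ∀ i, mt i i = id ∨ mt i i = z)
    (h3 : ∀ i, (∀ j, mt i j = mt j i) → i = id ∨ i = z)
    (h4 : ∀ j, mt z j = mt j z)
    (i0 j0 : Fin k) (h6 : mt i0 j0 ≠ mt j0 i0)
    (h7 : ∀ a, mt a a = id → a ≠ id → ∀ b, mt b b = id → b ≠ id → b ≠ a → mt a b = mt b a →
      ∀ c, mt c c = id → c ≠ id → c ≠ a → c ≠ b → c ≠ mt a b → mt a c = mt c a → mt b c = mt c b → False)
    (HK : Subgroup K) (hH : ∀ x ∈ HK, ψ x = 1 → x = 1) (hHc : Nat.card HK = Nat.card A) :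
    ∃ (Q : Subgroup C) (_ : Q.Normal), IsExtraspecial 2 Q ∧ Nat.card Q = k ∧
      (∀ E : Subgroup Q, IsElementaryAbelian 2 E → Nat.card E ≤ 2 ^ 2) ∧
      (∃ H : Subgroup C, Q.IsComplement' H) ∧ Nonempty (C ⧸ Q ≃* A) := by
  have : Finite C := Finite.of_equiv K φ.symm.toEquiv
  let f : C →* A := ψ.comp φ.toMonoidHom
  have hf : Function.Surjective f := hψ.comp φ.surjective
  let q : Fin k → C := fun i => φ.symm (qK i)
  have hf1 : ∀ i, f (q i) = 1 := by
    intro i
    change ψ (φ (φ.symm (qK i))) = 1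
    rw [MulEquiv.apply_symm_apply, hq1]
  have hq : Function.Injective q := φ.symm.injective.comp hinj
  have hcd : Nat.card C = k * Nat.card A := by
    rw [Nat.card_congr φ.toEquiv, hcard]
  have hqm : ∀ i j, q (mt i j) = q i * q j := by
    intro i j
    change φ.symm (qK (mt i j)) = φ.symm (qK i) * φ.symm (qK j)
    rw [hm, map_mul]
  obtain ⟨hc, hT⟩ := mt_ker f hf q hf1 hq hcd mt hqm
  refine ⟨f.ker, inferInstance, hT.isExtraspecial hk id z hid hz h1 h2 h3 h4 i0 j0 h6, hc,
    fun E hE => hT.ea_le id hid h7 E hE, ⟨HK.map φ.symm.toMonoidHom, ?_⟩,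
    ⟨QuotientGroup.quotientKerEquivOfSurjective f hf⟩⟩
  apply ker_complement f hf
  · rintro _ ⟨y, hy, rfl⟩ h
    have e : f (φ.symm y) = ψ y := by
      change ψ (φ (φ.symm y)) = ψ y
      rw [MulEquiv.apply_symm_apply]
    change f (φ.symm y) = 1 at h
    rw [e] at h
    have := hH y hy h
    rw [this]
    exact map_one _
  · rw [Subgroup.card_map_of_injective (f := φ.symm.toMonoidHom) φ.symm.injective, hHc]

/-- A subgroup mapping onto the image, of the same order, meets the kernel trivially. -/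
theorem inj_on_of_surj {K' : Type*} [Group K'] [Group A] [Finite K'] [Finite A] (ψ : K' →* A) (HK : Subgroup K')
    (hs : ∀ y : A, ∃ x ∈ HK, ψ x = y) (hc : Nat.card HK = Nat.card A) :
    ∀ x ∈ HK, ψ x = 1 → x = 1 := by
  intro x hx h1
  let g : HK →* A := ψ.comp HK.subtype
  have hg : Function.Surjective g := by
    intro y
    obtain ⟨x, hx, e⟩ := hs y
    exact ⟨⟨x, hx⟩, e⟩
  have hb := hg.bijective_of_nat_card_le hc.le
  have e := hb.1 (a₁ := ⟨x, hx⟩) (a₂ := 1) (by
    change ψ x = ψ 1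
    rw [h1, map_one])
  exact congrArg Subtype.val e

end Shape

section Small

open Cfsg.Agent.Lib.PermComp.Core

variable {n m : Nat} {F : Nat → Nat → Nat} {E : Nat → Equiv.Perm (Fin n)}
  {H : Subgroup (Equiv.Perm (Fin n))}

/-- The centralizer of the root of a forest is a small permutation group given by words. -/
theorem cent_small [Finite H] {D : Frs} (hE : ∀ g < m, E g ∈ H ∧ Rp (F g) (E g)) (hD : D.OK n m F)
    {c : ℕ} (hLc : c * D.L = Nat.card H) (hL : 0 < D.L)
    {t : Nat} (wx : Fin t → List Nat) (hwx : ∀ i, ∀ g ∈ wx i, g < m)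
    (hcomm : ∀ i, ∀ q < n, wApp F (wx i) (F D.t0 q) = F D.t0 (wApp F (wx i) q))
    {s W mask L1 maskL1 idc1 : Nat}
    (om oi : Nat → Nat) (hom : ∀ j < s, om j < n ∧ oi (om j) = j)
    (rc : Fin t → Nat)
    (hrc : ∀ i, ∀ j < s, app W mask (rc i) j < s ∧ wApp F (wx i) (om j) = om (app W mask (rc i) j))
    {p1 : List (Nat × Nat × Nat)} {ls1 : List Lev}
    (c1 : checkAll s W mask L1 maskL1 idc1 (List.ofFn rc) p1 ls1 = true) (h1 : orderC ls1 = c) :
    ∃ a : Fin t → Equiv.Perm (Fin s), (∀ i, Rep W mask (Equiv.refl (Fin s)) (rc i) (a i)) ∧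
      Nonempty (Subgroup.centralizer {(⟨E D.t0, (hE _ hD.ht0).1⟩ : H)} ≃* famCl a) := by
  have ht0 := hE _ hD.ht0
  let x : Fin t → Equiv.Perm (Fin n) := fun i => wEl E (wx i)
  have hxH : ∀ i, x i ∈ H := fun i => wEl_mem fun g hg => (hE g (hwx i g hg)).1
  have hxR : ∀ i, Rp (wApp F (wx i)) (x i) := fun i => wApp_spec fun g hg => (hE g (hwx i g hg)).2
  -- the points
  have hom' : ∀ j : Fin s, om j < n := fun j => (hom j j.2).1
  let omF : Fin s → Fin n := fun j => ⟨om j, hom' j⟩
  have hominj : Function.Injective omF := by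
    intro x y hxy
    have e : om x = om y := congrArg Fin.val hxy
    apply Fin.ext
    rw [← (hom x x.2).2, ← (hom y y.2).2, e]
  have hact0 : ∀ i, ∀ j : Fin s, x i (omF j) =
      omF ⟨app W mask (rc i) j, (hrc i j j.2).1⟩ := by
    intro i j
    have h4 := (hxR i) (om j) (hom' j)
    apply Fin.ext
    rw [← h4]
    exact (hrc i j j.2).2
  let f : Fin t → Fin s → Fin s := fun i j => ⟨app W mask (rc i) j, (hrc i j j.2).1⟩
  have hfinj : ∀ i, Function.Injective (f i) := by
    intro i y z hyz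
    apply hominj
    have h4 := hact0 i y
    have h5 := hact0 i z
    have h6 : x i (omF y) = x i (omF z) := by
      rw [h4, h5]
      exact congrArg omF hyz
    exact (x i).injective h6
  let a : Fin t → Equiv.Perm (Fin s) := fun i =>
    Equiv.ofBijective (f i) (Finite.injective_iff_bijective.1 (hfinj i))
  have hact : ∀ i j, x i (omF j) = omF (a i j) := hact0
  have hra : ∀ i, Rep W mask (Equiv.refl (Fin s)) (rc i) (a i) := fun i j => rfl
  have hR : Nat.card (famCl a) = c := by
    rw [card_famCl_of_check (e := Equiv.refl (Fin s)) a rc hra c1, h1]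
  refine ⟨a, hra, ?_⟩
  have hle : famCl x ≤ H ⊓ Subgroup.centralizer ({E D.t0} : Set (Equiv.Perm (Fin n))) := by
    apply (Subgroup.closure_le _).2
    rintro _ ⟨i, rfl⟩
    refine ⟨hxH i, Subgroup.mem_centralizer_singleton_iff.2 ?_⟩
    ext q
    have e1 := ((hxR i).mul ht0.2) q.1 q.2
    have e2 := (ht0.2.mul (hxR i)) q.1 q.2
    simp only [Equiv.Perm.mul_apply] at e1 e2 ⊢
    rw [← e1, ← e2]
    exact hcomm i q.1 q.2
  have hub := card_cent_le ht0.1 hLc hL (D.e E) (fun i _ => hD.conj hE i) (hD.inj hE)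
  have hQ := card_pair_le x a omF hominj hact
  have h2 : Nat.card (famCl a) ≤ Nat.card (pairCl x a) :=
    Nat.card_le_card_of_surjective _ (pairSnd_surj x a)
  have h3 : Nat.card (famCl x) ≤
      Nat.card (H ⊓ Subgroup.centralizer ({E D.t0} : Set (Equiv.Perm (Fin n))) : Subgroup _) :=
    Subgroup.card_le_of_le hle
  have h4 : c ≤ Nat.card (famCl x) := by
    rw [← hR]
    exact h2.trans hQ
  have h5 : Nat.card (pairCl x a) ≤ c := hQ.trans (h3.trans hub)
  have h6 : famCl x = H ⊓ Subgroup.centralizer ({E D.t0} : Set (Equiv.Perm (Fin n))) :=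
    Subgroup.eq_of_le_of_card_ge hle (hub.trans h4)
  obtain ⟨e1⟩ := iso_of_pair x a h5 h4 hR.ge
  exact ⟨(centEquiv H ht0.1).trans ((MulEquiv.subgroupCongr h6.symm).trans e1)⟩

end Small

section Invol

variable {n m : Nat} {F : Nat → Nat → Nat} {E : Nat → Equiv.Perm (Fin n)}
  {H : Subgroup (Equiv.Perm (Fin n))} {D : SylD} {L : Nat} {tv : Nat → Nat → Nat}
  {oth : Nat → Nat → Nat → Nat} {othOK : Nat → Nat → Bool} {Bs : List Nat}

/-- Every involution is conjugate to an element of the list, if the list has no other classes. -/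
theorem SylD.classify_all [Finite H] (h : D.OK n m L F tv oth othOK Bs)
    (hE : ∀ g < m, E g ∈ H ∧ Rp (F g) (E g))
    (hbase : ∀ x ∈ H, ∀ y ∈ H, (∀ b ∈ Bs, ∀ (hb : b < n), x ⟨b, hb⟩ = y ⟨b, hb⟩) → x = y)
    {a mm : ℕ} (hP : D.P = 2 ^ a) (hcard : Nat.card H = 2 ^ a * mm) (hm : ¬ 2 ∣ mm)
    (htv : ∀ l < L, ∃ e ∈ H, Rp (tv l) e)
    (hoth : ∀ cls l, othOK cls l = true → False)
    {z : Equiv.Perm (Fin n)} (hzH : z ∈ H) (hz2 : z * z = 1) (hz1 : z ≠ 1) :
    ∃ x ∈ H, ∃ l < L, ∃ e, Rp (tv l) e ∧ x * z * x⁻¹ = e := by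
  have hcQ := SylD.card_Q h hE hbase
  rw [hP] at hcQ
  obtain ⟨x, hx, hxQ⟩ := exists_conj_mem_of_two (D.Q E) (SylD.Q_le h.hcnt h.hoff hE) a mm hcQ hcard hm
    hzH hz2
  obtain ⟨i, hi, e⟩ := SylD.mem_list h hE hbase hxQ
  refine ⟨x, hx, ?_⟩
  set y : Equiv.Perm (Fin n) := x * z * x⁻¹ with hy
  have hyH : y ∈ H := H.mul_mem (H.mul_mem hx hzH) (H.inv_mem hx)
  have hy2 : y * y = 1 := by
    rw [hy]
    calc x * z * x⁻¹ * (x * z * x⁻¹) = x * (z * z) * x⁻¹ := by group
      _ = 1 := by rw [hz2]; group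
  have hy1 : y ≠ 1 := by
    intro h1
    apply hz1
    have : z = x⁻¹ * y * x := by rw [hy]; group
    rw [this, h1]
    group
  have hrp : Rp (D.v F i) y := by
    rw [e]
    exact SylD.rp h.hcnt h.hoff hE i
  rcases pkOK_spec (h.hkind i hi) with h1 | ⟨w, hw, h1⟩ | ⟨l, hl, h1⟩ | ⟨cls, l, h0, h1⟩
  · exfalso
    apply hy1
    refine hbase _ hyH _ H.one_mem fun b hb hb' => ?_
    apply Fin.ext
    rw [← hrp b hb', h1 b hb]
    rfl
  · exfalso
    apply h1
    have e1 := congrArg (fun f : Equiv.Perm (Fin n) => f ⟨w, hw⟩) hy2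
    simp only [Equiv.Perm.mul_apply, Equiv.Perm.one_apply] at e1
    rw [hrp w hw, hrp _ (Fin.isLt _), e1]
  · obtain ⟨e1, he1, he2⟩ := htv l hl
    refine ⟨l, hl, e1, he2, ?_⟩
    refine hbase _ hyH _ he1 fun b hb hb' => ?_
    apply Fin.ext
    rw [← hrp b hb', ← he2 b hb', h1 b hb]
  · exact (hoth cls l h0).elim

/-- All involutions of the group are conjugate to the root of a forest. -/
theorem invol_conj_root [Finite H] {Fr : Frs} (hFr : Fr.OK n m F)
    (h : D.OK n m Fr.L F (Fr.v F) oth othOK Bs)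
    (hE : ∀ g < m, E g ∈ H ∧ Rp (F g) (E g))
    (hbase : ∀ x ∈ H, ∀ y ∈ H, (∀ b ∈ Bs, ∀ (hb : b < n), x ⟨b, hb⟩ = y ⟨b, hb⟩) → x = y)
    {a mm : ℕ} (hP : D.P = 2 ^ a) (hcard : Nat.card H = 2 ^ a * mm) (hm : ¬ 2 ∣ mm)
    (hoth : ∀ cls l, othOK cls l = true → False)
    {z : Equiv.Perm (Fin n)} (hzH : z ∈ H) (hz2 : z * z = 1) (hz1 : z ≠ 1) :
    ∃ x ∈ H, x * z * x⁻¹ = E Fr.t0 := by
  obtain ⟨x, hx, l, hl, e, he1, he2⟩ := SylD.classify_all h hE hbase hP hcard hm
    (fun l _ => ⟨Fr.e E l, hFr.mem hE l, hFr.rp hE l⟩) hoth hzH hz2 hz1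
  have he3 : e = Fr.e E l := he1.eq (hFr.rp hE l)
  obtain ⟨y, hy, e3⟩ := hFr.conj hE l
  rw [he3, e3] at he2
  refine ⟨y⁻¹ * x, H.mul_mem (H.inv_mem hy) hx, ?_⟩
  have : y⁻¹ * x * z * (y⁻¹ * x)⁻¹ = y⁻¹ * (x * z * x⁻¹) * y := by group
  rw [this, he2]
  group

end Invol

end Cfsg.Agent.Lib.PermComp.OutP
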