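import Cfsg.Agent.Lib.PermComp.OutP.CentStr
import Cfsg.Agent.Lib.PermComp.OutP.Pc

/-!
# The elementary abelian subgroups of a 2-group with a large elementary abelian normal subgroup

The group acts on a normal elementary abelian subgroup `E`, given by a basis, through a small quotient.
Counting fixed points in `E` bounds all the elementary abelian subgroups not contained in `E`.
-/

set_option autoImplicit false

namespace Cfsg.Agent.Lib.PermComp.OutP

open Cfsg

section Rank

variable {G : Type*} [Group G] {k : ℕ} {q : Fin k → G} {mt : Fin k → Fin k → Fin k}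

/-- The subgroup generated by a list of commuting involutions, as a list with repetitions. -/
def spanL (mt : Fin k → Fin k → Fin k) (id : Fin k) (l : List (Fin k)) : List (Fin k) :=
  l.foldr (fun x acc => acc ++ acc.map (mt x)) [id]

theorem length_spanL (id : Fin k) (l : List (Fin k)) : (spanL mt id l).length = 2 ^ l.length := by
  induction l with
  | nil => rfl
  | cons x l ih =>
    have : spanL mt id (x :: l) = spanL mt id l ++ (spanL mt id l).map (mt x) := rfl
    rw [this, List.length_append, List.length_map, ih, List.length_cons, pow_succ]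
    omega

/-- No extension of a list of independent commuting involutions by `r` more elements. -/
def noExt (mt : Fin k → Fin k → Fin k) (id : Fin k) : Nat → List (Fin k) → Bool
  | 0, _ => false
  | r + 1, l => (List.finRange k).all fun e =>
      !(decide (mt e e = id)) || decide (e ∈ spanL mt id l) ||
        !(l.all fun x => decide (mt e x = mt x e)) || noExt mt id r (e :: l)

theorem noExt_spec {id : Fin k} {r : ℕ} {l : List (Fin k)} (hn : noExt mt id (r + 1) l = true) (e : Fin k)
    (h1 : mt e e = id) (h2 : e ∉ spanL mt id l) (h3 : ∀ x ∈ l, mt e x = mt x e) :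
    noExt mt id r (e :: l) = true := by
  have h4 := (List.all_eq_true.1 hn) e (List.mem_finRange e)
  simp only [Bool.or_eq_true, Bool.not_eq_true', decide_eq_false_iff_not, decide_eq_true_eq, h1, h2,
    not_true_eq_false, or_false, false_or, List.all_eq_false] at h4
  rcases h4 with h4 | h4
  · obtain ⟨x, hx, hx2⟩ := h4
    exact absurd (h3 x hx) hx2
  · exact h4

theorem MT.span_mem (h : MT q mt) {id : Fin k} (hid : mt id id = id) {X : Subgroup G} {l : List (Fin k)}
    (hl : ∀ x ∈ l, q x ∈ X) : ∀ y ∈ spanL mt id l, q y ∈ X := by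
  induction l with
  | nil =>
    intro y hy
    have : y = id := by simpa [spanL] using hy
    rw [this, h.one hid]
    exact X.one_mem
  | cons x l ih =>
    intro y hy
    have e : spanL mt id (x :: l) = spanL mt id l ++ (spanL mt id l).map (mt x) := rfl
    rw [e, List.mem_append] at hy
    have hl' := ih fun z hz => hl z (List.mem_cons_of_mem _ hz)
    rcases hy with hy | hy
    · exact hl' y hy
    · obtain ⟨z, hz, rfl⟩ := List.mem_map.1 hy
      rw [h.mul]
      exact X.mul_mem (hl x List.mem_cons_self) (hl' z hz)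

/-- A list can be extended inside a big elementary abelian subgroup. -/
theorem MT.exists_ext (h : MT q mt) {id : Fin k} (hid : mt id id = id) {X : Subgroup G}
    (hX : IsElementaryAbelian 2 X) {r : ℕ} {l : List (Fin k)} (hn : noExt mt id (r + 1) l = true)
    (hl : ∀ x ∈ l, q x ∈ X) (hc : 2 ^ l.length < Nat.card X) :
    ∃ e, (∀ x ∈ e :: l, q x ∈ X) ∧ noExt mt id r (e :: l) = true := by
  have : Finite G := Finite.of_surjective q h.bij.2
  have hone := h.one hid
  obtain ⟨x, hx, hx1⟩ := exists_mem_not_in (E := X) ((spanL mt id l).map q) (by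
    rw [List.length_map, length_spanL]
    exact hc)
  obtain ⟨e, rfl⟩ := h.bij.2 x
  have hcm : ∀ a ∈ X, ∀ b ∈ X, a * b = b * a := by
    intro a ha b hb
    have := hX.1.is_comm.comm (⟨a, ha⟩ : X) ⟨b, hb⟩
    exact congrArg Subtype.val this
  refine ⟨e, ?_, ?_⟩
  · intro y hy
    rcases List.mem_cons.1 hy with rfl | hy
    · exact hx
    · exact hl y hy
  · refine noExt_spec hn e ?_ ?_ ?_
    · apply h.bij.1
      rw [h.mul, hone, ← pow_two]
      exact hX.2 _ hx
    · intro he
      exact hx1 (List.mem_map_of_mem he)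
    · intro y hy
      apply h.bij.1
      rw [h.mul, h.mul]
      exact hcm _ hx _ (hl y hy)

/-- The bound for the elementary abelian subgroups from the table. -/
theorem MT.ea_rank (h : MT q mt) {id : Fin k} (hid : mt id id = id) {X : Subgroup G}
    (hX : IsElementaryAbelian 2 X) : ∀ (r : ℕ) (l : List (Fin k)), noExt mt id (r + 1) l = true →
      (∀ x ∈ l, q x ∈ X) → Nat.card X ≤ 2 ^ (l.length + r) := by
  intro r
  induction r with
  | zero =>
    intro l hn hl
    by_contra hc
    have hc' : 2 ^ l.length < Nat.card X := by simpa using hc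
    obtain ⟨e, -, h1⟩ := h.exists_ext hid hX hn hl hc'
    simp [noExt] at h1
  | succ r ih =>
    intro l hn hl
    by_contra hc
    have hc' : 2 ^ l.length < Nat.card X := by
      have h1 : 2 ^ l.length ≤ 2 ^ (l.length + (r + 1)) :=
        Nat.pow_le_pow_right (by norm_num) (by omega)
      omega
    obtain ⟨e, h2, h1⟩ := h.exists_ext hid hX hn hl hc'
    have h3 := ih (e :: l) h1 h2
    apply hc
    have e1 : (e :: l).length + r = l.length + (r + 1) := by
      rw [List.length_cons]
      omega
    rwa [e1] at h3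

end Rank

section Count

/-- The number of the numbers below `n` with a property. -/
def cnt (P : Nat → Bool) : Nat → Nat
  | 0 => 0
  | n + 1 => cnt P n + (if P n = true then 1 else 0)

theorem cnt_eq (P : Nat → Bool) (n : Nat) :
    cnt P n = ((Finset.range n).filter (fun c => P c = true)).card := by
  induction n with
  | zero => rfl
  | succ n ih =>
    rw [cnt, ih, Finset.range_add_one, Finset.filter_insert]
    by_cases h : P n = true
    · simp only [h, if_true]
      rw [Finset.card_insert_of_notMem]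
      simp
    · simp only [h, if_false]
      rfl

end Count

section Xor

variable {Γ : Type*} [Group Γ] {b : Nat → Γ}

theorem pe_comm_gen (hc : ∀ i j, b i * b j = b j * b i) (j v k : Nat) :
    b j * pe b v k = pe b v k * b j := by
  induction k with
  | zero => simp [pe]
  | succ k ih =>
    simp only [pe]
    split_ifs
    · rw [← mul_assoc, ih, mul_assoc, hc, mul_assoc]
    · exact ih

theorem pe_xor (hc : ∀ i j, b i * b j = b j * b i) (hs : ∀ i, b i * b i = 1) (u v k : Nat) :
    pe b (u ^^^ v) k = pe b u k * pe b v k := by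
  induction k with
  | zero => simp [pe]
  | succ k ih =>
    simp only [pe, Nat.testBit_xor]
    cases hu : u.testBit k <;> cases hv : v.testBit k <;> simp only [Bool.xor_false, Bool.false_xor,
      Bool.xor_true, Bool.true_xor, Bool.not_true, Bool.not_false, if_true, if_false, reduceIte, ih,
      Bool.false_eq_true]
    · rw [mul_assoc]
    · rw [mul_assoc, mul_assoc, pe_comm_gen hc]
    · have e : pe b u k * b k * (pe b v k * b k) = pe b u k * pe b v k * (b k * b k) := by
        rw [mul_assoc, ← mul_assoc (b k), pe_comm_gen hc, mul_assoc, mul_assoc]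
      rw [e, hs, mul_one]

/-- The action on the numbers of a basis of an elementary abelian group. -/
def Mk (dv σ ib : Nat → Nat) (c : Nat) : Nat → Nat
  | 0 => 0
  | k + 1 => if c.testBit k = true then Mk dv σ ib c k ^^^ dv (σ (ib k)) else Mk dv σ ib c k

theorem Mk_lt {dv σ ib : Nat → Nat} {K : Nat} (hdv : ∀ i, dv i < 2 ^ K) (c k : Nat) :
    Mk dv σ ib c k < 2 ^ K := by
  induction k with
  | zero =>
    simp [Mk]
  | succ k ih =>
    simp only [Mk]
    split_ifs
    · exact Nat.xor_lt_two_pow ih (hdv _)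
    · exact ih

theorem pe_zero (k : Nat) : pe b 0 k = 1 := by
  induction k with
  | zero => rfl
  | succ k ih =>
    simp [pe, ih]

/-- The action on the numbers of a basis of an elementary abelian group. -/
theorem conj_pe (hc : ∀ i j, b i * b j = b j * b i) (hs : ∀ i, b i * b i = 1) {K : Nat}
    {dv σ ib : Nat → Nat} {x : Γ} (hx : ∀ j < K, x * b j * x⁻¹ = pe b (dv (σ (ib j))) K) (c : Nat) :
    ∀ k ≤ K, x * pe b c k * x⁻¹ = pe b (Mk dv σ ib c k) K := by
  intro k
  induction k with
  | zero =>
    intro _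
    simp [pe, Mk, pe_zero]
  | succ k ih =>
    intro hk
    have h1 := ih (by omega)
    simp only [pe, Mk]
    split_ifs
    · rw [pe_xor hc hs, ← h1, ← hx k (by omega)]
      group
    · exact h1

end Xor

section Core

variable {Γ : Type*} [Group Γ] {T0 : Subgroup Γ} [Finite T0] {Y : Type*} [Group Y]

/-- The elementary abelian subgroups outside a normal one. -/
theorem ea_core (ψ : T0 →* Y) (b : Nat → Γ) (K : Nat)
    (M : Y → Nat → Nat)
    (hM : ∀ (x : T0), ∀ c < 2 ^ K, (x : Γ) * pe b c K * (x : Γ)⁻¹ = pe b (M (ψ x) c) K)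
    (hinj : ∀ c < 2 ^ K, ∀ c' < 2 ^ K, pe b c K = pe b c' K → c = c')
    (hMlt : ∀ σ, ∀ c < 2 ^ K, M σ c < 2 ^ K)
    (hsurj : ∀ y ∈ Qk b K, ∃ c < 2 ^ K, y = pe b c K)
    (hker : ∀ x : T0, ψ x = 1 ↔ (x : Γ) ∈ Qk b K)
    {n1 n2 r : ℕ}
    (hB1 : ∀ σ : Y, σ ≠ 1 → σ * σ = 1 →
      ((Finset.range (2 ^ K)).filter (fun c => M σ c = c)).card ≤ n1)
    (hB2 : ∀ σ τ : Y, σ ≠ 1 → τ ≠ 1 → σ ≠ τ → σ * σ = 1 → τ * τ = 1 → σ * τ = τ * σ →
      ((Finset.range (2 ^ K)).filter (fun c => M σ c = c ∧ M τ c = c)).card ≤ n2)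
    (hB3 : ∀ X : Subgroup Y, IsElementaryAbelian 2 X → Nat.card X ≤ r)
    (A : Subgroup Γ) (hA : A ≤ T0) (hEA : IsElementaryAbelian 2 A) :
    A ≤ Qk b K ∨ Nat.card A ≤ max (n1 * 2) (n2 * r) := by
  classical
  have hcm : ∀ a ∈ A, ∀ c ∈ A, a * c = c * a := by
    intro a ha c hc
    have := hEA.1.is_comm.comm (⟨a, ha⟩ : A) ⟨c, hc⟩
    exact congrArg Subtype.val this
  let A' : Subgroup T0 := A.subgroupOf T0
  have hcA : Nat.card A' = Nat.card A := Nat.card_congr (Subgroup.subgroupOfEquivOfLe hA).toEquiv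
  let f : A' →* Y := ψ.comp A'.subtype
  have hcard : Nat.card A' = Nat.card f.ker * Nat.card f.range := by
    have e : (A' ⧸ f.ker) ≃* f.range := QuotientGroup.quotientKerEquivRange f
    have h2 := Subgroup.card_eq_card_quotient_mul_card_subgroup f.ker
    rw [Nat.card_congr e.toEquiv] at h2
    rw [h2, mul_comm]
  have hval : ∀ x : f.range, ∃ z : A', f z = x := fun x => x.2
  have hsq : ∀ z : A', f z * f z = 1 := by
    intro z
    have h1 : (z : T0) * z = 1 := by
      apply Subtype.ext
      have h2 := hEA.2 _ z.2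
      rw [pow_two] at h2
      exact h2
    change ψ z * ψ z = 1
    rw [← map_mul, h1, map_one]
  have hfc : ∀ z z' : A', f z * f z' = f z' * f z := by
    intro z z'
    rw [← map_mul, ← map_mul]
    congr 1
    apply Subtype.ext
    apply Subtype.ext
    exact hcm _ z.2 _ z'.2
  have hXEA : IsElementaryAbelian 2 f.range := by
    refine ⟨⟨⟨?_⟩⟩, ?_⟩
    · rintro ⟨x, z, rfl⟩ ⟨y, z', rfl⟩
      apply Subtype.ext
      exact hfc z z'
    · rintro _ ⟨z, rfl⟩
      rw [pow_two]
      exact hsq z
  -- the numbers of the elements of the kernel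
  have hkz : ∀ z : f.ker, ∃ c < 2 ^ K, (((z : A') : T0) : Γ) = pe b c K := by
    intro z
    apply hsurj
    exact (hker _).1 z.2
  choose cd hcd1 hcd2 using hkz
  have hcdinj : Function.Injective cd := by
    intro z z' e
    apply Subtype.ext
    apply Subtype.ext
    apply Subtype.ext
    rw [hcd2, hcd2, e]
  have hfix : ∀ (w : A') (z : f.ker), M (f w) (cd z) = cd z := by
    intro w z
    have h1 := hM (w : T0) (cd z) (hcd1 z)
    rw [← hcd2 z] at h1
    have h2 : (((w : A') : T0) : Γ) * ((z : A') : T0) * (((w : A') : T0) : Γ)⁻¹ = ((z : A') : T0) := by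
      have e2 : (((w : A') : T0) : Γ) * ((z : A') : T0) = ((z : A') : T0) * (((w : A') : T0) : Γ) :=
        hcm _ (Subgroup.mem_subgroupOf.1 w.2) _ (Subgroup.mem_subgroupOf.1 z.1.2)
      rw [e2]
      group
    rw [h2, hcd2 z] at h1
    exact (hinj _ (hcd1 z) _ (hMlt _ _ (hcd1 z)) h1).symm
  by_cases hX : ∀ z : A', f z = 1
  · left
    intro x hx
    have h1 := hX ⟨⟨x, hA hx⟩, hx⟩
    exact (hker ⟨x, hA hx⟩).1 h1
  · right
    push Not at hX
    obtain ⟨w, hw⟩ := hX
    have hk1 : Nat.card f.ker ≤ n1 := by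
      refine le_trans ?_ (hB1 (f w) hw (hsq w))
      have h1 : Function.Injective (fun z : f.ker =>
          (⟨cd z, Finset.mem_filter.2 ⟨Finset.mem_range.2 (hcd1 z), hfix w z⟩⟩ :
            ((Finset.range (2 ^ K)).filter (fun c => M (f w) c = c) : Finset Nat))) := by
        intro z z' e
        exact hcdinj (congrArg Subtype.val e)
      have h2 := Nat.card_le_card_of_injective _ h1
      rwa [Nat.card_eq_fintype_card (α := ((Finset.range (2 ^ K)).filter (fun c => M (f w) c = c) : Finset Nat)),
        Fintype.card_coe] at h2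
    rw [← hcA, hcard]
    by_cases hX2 : ∀ z : A', f z = 1 ∨ f z = f w
    · have hr2 : Nat.card f.range ≤ 2 := by
        have h1 : (f.range : Set Y) ⊆ {1, f w} := by
          rintro _ ⟨z, rfl⟩
          rcases hX2 z with h | h
          · exact Or.inl h
          · exact Or.inr h
        have h2 : Nat.card f.range ≤ Nat.card ({1, f w} : Set Y) :=
          Nat.card_le_card_of_injective (fun x : f.range => (⟨x.1, h1 x.2⟩ : ({1, f w} : Set Y)))
            (fun x y e => Subtype.ext (by
              have := congrArg Subtype.val e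
              exact this))
        rw [Nat.card_coe_set_eq] at h2
        exact h2.trans (Set.ncard_pair hw.symm).le
      exact le_max_of_le_left (Nat.mul_le_mul hk1 hr2)
    · push Not at hX2
      obtain ⟨w2, hw2, hw3⟩ := hX2
      have hk2 : Nat.card f.ker ≤ n2 := by
        refine le_trans ?_ (hB2 (f w) (f w2) hw hw2 (Ne.symm hw3) (hsq w) (hsq w2) (hfc w w2))
        have h1 : Function.Injective (fun z : f.ker =>
            (⟨cd z, Finset.mem_filter.2 ⟨Finset.mem_range.2 (hcd1 z), hfix w z, hfix w2 z⟩⟩ :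
              ((Finset.range (2 ^ K)).filter (fun c => M (f w) c = c ∧ M (f w2) c = c) : Finset Nat))) := by
          intro z z' e
          exact hcdinj (congrArg Subtype.val e)
        have h2 := Nat.card_le_card_of_injective _ h1
        rwa [Nat.card_eq_fintype_card (α := ((Finset.range (2 ^ K)).filter (fun c => M (f w) c = c ∧ M (f w2) c = c) : Finset Nat)),
          Fintype.card_coe] at h2
      exact le_max_of_le_right (Nat.mul_le_mul hk2 (hB3 _ hXEA))

end Core

section Sylow

variable {G : Type*} [Group G] [Finite G]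

/-- The statement for all Sylow subgroups, from one of them. -/
theorem ea_sylow (T0 : Sylow 2 G) (E : Subgroup G) (hE1 : E ≤ T0)
    (hEn : ∀ x ∈ (T0 : Subgroup G), ∀ y ∈ E, x * y * x⁻¹ ∈ E)
    (hEA : IsElementaryAbelian 2 E) {c : ℕ} (hc : Nat.card E = c)
    (hmax : ∀ A : Subgroup G, A ≤ T0 → IsElementaryAbelian 2 A → A ≠ E → Nat.card A < c)
    (T : Sylow 2 G) :
    (∀ A : Subgroup G, A ≤ T → (A.subgroupOf T).Normal → IsElementaryAbelian 2 A → Nat.card A ≤ c) ∧
    ∃! A : Subgroup G, A ≤ T ∧ (A.subgroupOf T).Normal ∧ IsElementaryAbelian 2 A ∧ Nat.card A = c := by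
  classical
  obtain ⟨g, hg⟩ := MulAction.exists_smul_eq G T0 T
  -- conjugation
  let φ : G ≃* G := MulAut.conj g
  have hmapT : (T : Subgroup G) = (T0 : Subgroup G).map φ.toMonoidHom := by
    rw [← hg]
    rfl
  have hcardmap : ∀ A : Subgroup G, Nat.card (A.map φ.toMonoidHom) = Nat.card A := fun A =>
    Subgroup.card_map_of_injective φ.injective
  have hEAmap : ∀ A : Subgroup G, IsElementaryAbelian 2 A → IsElementaryAbelian 2 (A.map φ.toMonoidHom) := by
    intro A hA
    refine ⟨⟨⟨?_⟩⟩, ?_⟩
    · rintro ⟨_, x, hx, rfl⟩ ⟨_, y, hy, rfl⟩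
      apply Subtype.ext
      have := hA.1.is_comm.comm (⟨x, hx⟩ : A) ⟨y, hy⟩
      have h2 := congrArg Subtype.val this
      simp only [Subgroup.coe_mul] at h2 ⊢
      change φ x * φ y = φ y * φ x
      rw [← map_mul, ← map_mul]
      exact congrArg φ h2
    · rintro _ ⟨x, hx, rfl⟩
      change (φ x) ^ 2 = 1
      rw [← map_pow, hA.2 x hx, map_one]
  have hcomap : ∀ A : Subgroup G, A ≤ T → ∃ A0 : Subgroup G, A0 ≤ T0 ∧ A0.map φ.toMonoidHom = A := by
    intro A hA
    refine ⟨A.map φ.symm.toMonoidHom, ?_, ?_⟩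
    · rintro _ ⟨x, hx, rfl⟩
      have h1 := hA hx
      rw [hmapT] at h1
      obtain ⟨y, hy, rfl⟩ := h1
      have : φ.symm (φ y) = y := φ.symm_apply_apply y
      change φ.symm (φ y) ∈ _
      rwa [this]
    · ext x
      constructor
      · rintro ⟨_, ⟨y, hy, rfl⟩, rfl⟩
        have : φ (φ.symm y) = y := φ.apply_symm_apply y
        change φ (φ.symm y) ∈ A
        rwa [this]
      · intro hx
        exact ⟨φ.symm x, ⟨x, hx, rfl⟩, φ.apply_symm_apply x⟩
  have hEAback : ∀ A0 : Subgroup G, IsElementaryAbelian 2 (A0.map φ.toMonoidHom) → IsElementaryAbelian 2 A0 := by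
    intro A0 hA
    refine ⟨⟨⟨?_⟩⟩, ?_⟩
    · rintro ⟨x, hx⟩ ⟨y, hy⟩
      apply Subtype.ext
      have := hA.1.is_comm.comm (⟨φ x, ⟨x, hx, rfl⟩⟩ : A0.map φ.toMonoidHom) ⟨φ y, ⟨y, hy, rfl⟩⟩
      have h2 := congrArg Subtype.val this
      simp only [Subgroup.coe_mul] at h2 ⊢
      apply φ.injective
      rw [map_mul, map_mul]
      exact h2
    · intro x hx
      apply φ.injective
      rw [map_pow, map_one]
      exact hA.2 (φ x) ⟨x, hx, rfl⟩
  have hbound : ∀ A0 : Subgroup G, A0 ≤ T0 → IsElementaryAbelian 2 A0 → Nat.card A0 ≤ c := by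
    intro A0 h1 h2
    by_cases h3 : A0 = E
    · rw [h3, hc]
    · exact (hmax A0 h1 h2 h3).le
  constructor
  · intro A hA _ hAE
    obtain ⟨A0, h1, rfl⟩ := hcomap A hA
    rw [hcardmap]
    exact hbound A0 h1 (hEAback A0 hAE)
  · refine ⟨E.map φ.toMonoidHom, ⟨?_, ?_, hEAmap E hEA, by rw [hcardmap, hc]⟩, ?_⟩
    · rw [hmapT]
      exact Subgroup.map_mono hE1
    · constructor
      rintro ⟨x, hx⟩ hx2 ⟨t, ht⟩
      rw [Subgroup.mem_subgroupOf] at hx2 ⊢
      obtain ⟨y, hy, rfl⟩ := hx2
      have ht2 := ht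
      rw [hmapT] at ht2
      obtain ⟨s, hs, rfl⟩ := ht2
      refine ⟨s * y * s⁻¹, hEn s hs y hy, ?_⟩
      change φ (s * y * s⁻¹) = φ s * φ y * (φ s)⁻¹
      rw [map_mul, map_mul, map_inv]
    · rintro A ⟨h1, -, h3, h4⟩
      obtain ⟨A0, h5, rfl⟩ := hcomap A h1
      congr 1
      by_contra h6
      have := hmax A0 h5 (hEAback A0 h3) h6
      rw [hcardmap] at h4
      omega

end Sylow

section Transfer

theorem isEA_map {G G' : Type*} [Group G] [Group G'] (f : G →* G') {A : Subgroup G}
    (hA : IsElementaryAbelian 2 A) : IsElementaryAbelian 2 (A.map f) := by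
  refine ⟨⟨⟨?_⟩⟩, ?_⟩
  · rintro ⟨_, x, hx, rfl⟩ ⟨_, y, hy, rfl⟩
    apply Subtype.ext
    have := hA.1.is_comm.comm (⟨x, hx⟩ : A) ⟨y, hy⟩
    have h2 := congrArg Subtype.val this
    simp only [Subgroup.coe_mul] at h2 ⊢
    rw [← map_mul, ← map_mul, h2]
  · rintro _ ⟨x, hx, rfl⟩
    rw [← map_pow, hA.2 x hx, map_one]

theorem isEA_comap {G G' : Type*} [Group G] [Group G'] {f : G →* G'} (hf : Function.Injective f)
    {A : Subgroup G'} (hA : IsElementaryAbelian 2 A) : IsElementaryAbelian 2 (A.comap f) := by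
  refine ⟨⟨⟨?_⟩⟩, ?_⟩
  · rintro ⟨x, hx⟩ ⟨y, hy⟩
    apply Subtype.ext
    have := hA.1.is_comm.comm (⟨f x, hx⟩ : A) ⟨f y, hy⟩
    have h2 := congrArg Subtype.val this
    simp only [Subgroup.coe_mul] at h2 ⊢
    apply hf
    rw [map_mul, map_mul]
    exact h2
  · intro x hx
    apply hf
    rw [map_pow, map_one]
    exact hA.2 (f x) hx

/-- The statement in a group from the statement in an isomorphic subgroup of a bigger group. -/
theorem ea_transfer {G Γ : Type*} [Group G] [Group Γ] [Finite G] (ι : G →* Γ)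
    (hι : Function.Injective ι) (T E : Subgroup Γ) (hTr : T ≤ ι.range) (hET : E ≤ T)
    (hEn : ∀ x ∈ T, ∀ y ∈ E, x * y * x⁻¹ ∈ E) (hEA : IsElementaryAbelian 2 E) {a m c : ℕ}
    (hT : Nat.card T = 2 ^ a) (hG : Nat.card G = 2 ^ a * m) (hm : ¬ 2 ∣ m) (hc : Nat.card E = c)
    (hmax : ∀ A : Subgroup Γ, A ≤ T → IsElementaryAbelian 2 A → A ≠ E → Nat.card A < c)
    (S : Sylow 2 G) :
    (∀ A : Subgroup G, A ≤ S → (A.subgroupOf S).Normal → IsElementaryAbelian 2 A → Nat.card A ≤ c) ∧
    ∃! A : Subgroup G, A ≤ S ∧ (A.subgroupOf S).Normal ∧ IsElementaryAbelian 2 A ∧ Nat.card A = c := by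
  have : Fact (Nat.Prime 2) := ⟨Nat.prime_two⟩
  have hmapc : ∀ U : Subgroup Γ, U ≤ ι.range → (U.comap ι).map ι = U := fun U hU =>
    Subgroup.map_comap_eq_self hU
  have hcardc : ∀ U : Subgroup Γ, U ≤ ι.range → Nat.card (U.comap ι) = Nat.card U := by
    intro U hU
    conv_rhs => rw [← hmapc U hU]
    exact (Subgroup.card_map_of_injective hι).symm
  have hm0 : m ≠ 0 := fun h => hm (h ▸ dvd_zero 2)
  have hfac : (Nat.card G).factorization 2 = a := by
    rw [hG, Nat.factorization_mul (pow_ne_zero _ two_ne_zero) hm0]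
    simp [Nat.factorization_eq_zero_of_not_dvd hm, Nat.Prime.factorization_self Nat.prime_two]
  let T0 : Sylow 2 G := Sylow.ofCard (T.comap ι) (by rw [hcardc T hTr, hT, hfac])
  refine ea_sylow T0 (E.comap ι) (Subgroup.comap_mono hET) ?_ (isEA_comap hι hEA) ?_ ?_ S
  · intro x hx y hy
    have hx' : ι x ∈ T := hx
    have hy' : ι y ∈ E := hy
    change ι (x * y * x⁻¹) ∈ E
    rw [map_mul, map_mul, map_inv]
    exact hEn _ hx' _ hy'
  · rw [hcardc E (hET.trans hTr), hc]
  · intro A hA hAE hne
    have h1 : A.map ι ≤ T := by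
      rintro _ ⟨x, hx, rfl⟩
      exact hA hx
    have h2 : A.map ι ≠ E := by
      intro h3
      apply hne
      rw [← h3]
      exact (Subgroup.comap_map_eq_self_of_injective hι A).symm
    have h3 := hmax _ h1 (isEA_map ι hAE) h2
    rwa [Subgroup.card_map_of_injective hι] at h3

end Transfer

section PairH

variable {A B ι : Type*} [Group A] [Group B]

/-- A homomorphism between the groups generated by two families, when the first projection of the
group generated by the pairs is injective. -/
theorem hom_of_pair2 [Finite A] [Finite B] (a : ι → A) (b : ι → B)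
    (hP : Nat.card (pairCl a b) ≤ Nat.card (famCl a)) :
    ∃ ψ : famCl a →* famCl b, Function.Surjective ψ ∧
      ∀ z : famCl a, ((z : A), (ψ z : B)) ∈ pairCl a b := by
  have h1 : Function.Bijective (pairFst a b) := (pairFst_surj a b).bijective_of_nat_card_le hP
  let e := MulEquiv.ofBijective (pairFst a b) h1
  refine ⟨(pairSnd a b).comp e.symm.toMonoidHom, ?_, ?_⟩
  · intro y
    obtain ⟨x, hx⟩ := pairSnd_surj a b y
    refine ⟨e x, ?_⟩
    simp only [MonoidHom.comp_apply]
    rw [← hx]
    congr 1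
    exact e.symm_apply_apply x
  · intro z
    have h2 : (e.symm z : pairCl a b).1.1 = z := by
      have := e.apply_symm_apply z
      exact congrArg Subtype.val this
    have h3 := (e.symm z).2
    have h4 : ((e.symm z : pairCl a b).1.1, (e.symm z : pairCl a b).1.2) ∈ pairCl a b := h3
    rw [h2] at h4
    exact h4

end PairH

section CfCount

open Cfsg.Agent.Lib.PermComp.Core (force force_eq)

/-- The number of common fixed numbers of two linear maps, by doubling. -/
noncomputable def cf (L1 L2 : Nat → Nat) (k : Nat) : Nat → Nat → Nat → Nat :=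
  Nat.rec (fun a1 a2 c => Bool.rec 0 (Bool.rec 0 1 (Nat.beq a2 c)) (Nat.beq a1 c))
    (fun k ih a1 a2 c => Nat.add (ih a1 a2 c)
      (force (Nat.xor a1 (L1 k)) fun a1' => force (Nat.xor a2 (L2 k)) fun a2' =>
        force (Nat.add c (Nat.pow 2 k)) fun c' => ih a1' a2' c')) k

theorem cf_zero (L1 L2 : Nat → Nat) (a1 a2 c : Nat) :
    cf L1 L2 0 a1 a2 c = if a1 = c ∧ a2 = c then 1 else 0 := by
  have e : cf L1 L2 0 a1 a2 c = Bool.rec 0 (Bool.rec 0 1 (Nat.beq a2 c)) (Nat.beq a1 c) := rfl
  rw [e]
  by_cases h1 : a1 = c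
  · subst h1
    by_cases h2 : a2 = a1
    · subst h2
      simp
    · have h3 : Nat.beq a2 a1 = false := by
        cases h : Nat.beq a2 a1
        · rfl
        · exact absurd (Nat.eq_of_beq_eq_true h) h2
      simp [h2, h3]
  · have h3 : Nat.beq a1 c = false := by
      cases h : Nat.beq a1 c
      · rfl
      · exact absurd (Nat.eq_of_beq_eq_true h) h1
    simp [h1, h3]

theorem cf_succ (L1 L2 : Nat → Nat) (k a1 a2 c : Nat) :
    cf L1 L2 (k + 1) a1 a2 c =
      cf L1 L2 k a1 a2 c + cf L1 L2 k (a1 ^^^ L1 k) (a2 ^^^ L2 k) (c + 2 ^ k) := by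
  have e : cf L1 L2 (k + 1) a1 a2 c = Nat.add (cf L1 L2 k a1 a2 c)
      (force (Nat.xor a1 (L1 k)) fun a1' => force (Nat.xor a2 (L2 k)) fun a2' =>
        force (Nat.add c (Nat.pow 2 k)) fun c' => cf L1 L2 k a1' a2' c') := rfl
  rw [e]
  simp only [force_eq]
  rfl

theorem card_filter_split (P : Nat → Prop) [DecidablePred P] (m : Nat) :
    ((Finset.range (m + m)).filter P).card =
      ((Finset.range m).filter P).card + ((Finset.range m).filter fun x => P (m + x)).card := by
  simp only [Finset.card_filter]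
  rw [Finset.sum_range_add]

theorem Mk_bits {dv σ ib : Nat → Nat} {x y k : Nat} (h : ∀ j < k, x.testBit j = y.testBit j) :
    Mk dv σ ib x k = Mk dv σ ib y k := by
  induction k with
  | zero => rfl
  | succ k ih =>
    have h1 := ih fun j hj => h j (by omega)
    simp only [Mk]
    rw [h k (by omega), h1]

theorem Mk_congr {dv σ τ ib : Nat → Nat} {x k : Nat} (h : ∀ j < k, σ (ib j) = τ (ib j)) :
    Mk dv σ ib x k = Mk dv τ ib x k := by
  induction k with
  | zero => rfl
  | succ k ih =>
    have h1 := ih fun j hj => h j (by omega)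
    simp only [Mk]
    rw [h k (by omega), h1]

/-- The meaning of the count. -/
theorem cf_spec {dv σ τ ib : Nat → Nat} (k : Nat) : ∀ a1 a2 c,
    cf (fun j => dv (σ (ib j))) (fun j => dv (τ (ib j))) k a1 a2 c =
      ((Finset.range (2 ^ k)).filter fun x =>
        a1 ^^^ Mk dv σ ib x k = c + x ∧ a2 ^^^ Mk dv τ ib x k = c + x).card := by
  induction k with
  | zero =>
    intro a1 a2 c
    rw [cf_zero]
    simp [Mk, Finset.filter_singleton]
    split_ifs <;> simp
  | succ k ih =>
    intro a1 a2 c
    rw [cf_succ, ih, ih]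
    have hp : 2 ^ (k + 1) = 2 ^ k + 2 ^ k := by
      rw [pow_succ]
      omega
    rw [hp, card_filter_split]
    congr 2
    · apply Finset.filter_congr
      intro x hx
      have hx' : x < 2 ^ k := Finset.mem_range.1 hx
      have e1 : ∀ ρ : Nat → Nat, Mk dv ρ ib x (k + 1) = Mk dv ρ ib x k := by
        intro ρ
        simp only [Mk]
        rw [Nat.testBit_lt_two_pow hx']
        simp
      rw [e1, e1]
    · apply Finset.filter_congr
      intro x hx
      have hx' : x < 2 ^ k := Finset.mem_range.1 hx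
      have e1 : ∀ ρ : Nat → Nat, Mk dv ρ ib (2 ^ k + x) (k + 1) = Mk dv ρ ib x k ^^^ dv (ρ (ib k)) := by
        intro ρ
        simp only [Mk]
        rw [Nat.testBit_two_pow_add_eq, Nat.testBit_lt_two_pow hx']
        simp only [Bool.not_false, if_true]
        rw [Mk_bits (x := 2 ^ k + x) (y := x) fun j hj => Nat.testBit_two_pow_add_gt hj x]
      rw [e1, e1, Nat.xor_assoc, Nat.xor_assoc, Nat.xor_comm (dv (σ (ib k))), Nat.xor_comm (dv (τ (ib k))),
        ← Nat.xor_assoc, ← Nat.xor_assoc, Nat.add_assoc]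

end CfCount

section Basis

variable {Γ : Type*} [Group Γ] {b : Nat → Γ}

theorem pe_two_pow {j : Nat} : ∀ k, j < k → pe b (2 ^ j) k = b j := by
  intro k
  induction k with
  | zero => intro h; omega
  | succ k ih =>
    intro h
    simp only [pe]
    by_cases e : j = k
    · subst e
      rw [Nat.testBit_two_pow_self]
      simp only [if_true]
      have h1 : pe b (2 ^ j) j = pe b 0 j := pe_congr b fun m hm => by
        rw [Nat.testBit_two_pow_of_ne (by omega), Nat.zero_testBit]
      rw [h1, pe_zero, one_mul]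
    · rw [Nat.testBit_two_pow_of_ne e]
      simp only [Bool.false_eq_true, if_false]
      exact ih (by omega)

theorem pe_mem_of {K : Subgroup Γ} {k : Nat} (h : ∀ j < k, b j ∈ K) (i : Nat) : pe b i k ∈ K := by
  induction k with
  | zero => exact K.one_mem
  | succ k ih =>
    have h1 := ih fun j hj => h j (by omega)
    simp only [pe]
    split_ifs
    · exact K.mul_mem h1 (h k (by omega))
    · exact h1

theorem basis_surj [Finite Γ] (hc : ∀ i j, b i * b j = b j * b i) (hs : ∀ i, b i * b i = 1) (K : Nat) :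
    ∀ y ∈ Qk b K, ∃ c < 2 ^ K, y = pe b c K :=
  pc_surj (a := K) (fun k _ j hj => ⟨2 ^ j, Nat.pow_lt_pow_right (by norm_num) hj, by
      rw [pe_two_pow k hj, hc]⟩)
    (fun k _ => ⟨0, by positivity, by rw [hs, pe_zero]⟩) K le_rfl

theorem basis_card [Finite Γ] (hc : ∀ i j, b i * b j = b j * b i) (hs : ∀ i, b i * b i = 1) (K : Nat)
    (hinj : ∀ c < 2 ^ K, ∀ c' < 2 ^ K, pe b c K = pe b c' K → c = c') :
    Nat.card (Qk b K) = 2 ^ K := by
  have e : Nat.card (Fin (2 ^ K)) = 2 ^ K := by simp
  rw [← e]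
  symm
  refine Nat.card_eq_of_bijective (fun i => ⟨pe b i.1 K, pe_mem b i.1 K⟩) ⟨?_, ?_⟩
  · intro i j hij
    exact Fin.ext (hinj i.1 i.2 j.1 j.2 (congrArg Subtype.val hij))
  · rintro ⟨y, hy⟩
    obtain ⟨i, hi, rfl⟩ := basis_surj hc hs K y hy
    exact ⟨⟨i, hi⟩, rfl⟩

theorem basis_ea [Finite Γ] (hc : ∀ i j, b i * b j = b j * b i) (hs : ∀ i, b i * b i = 1) (K : Nat) :
    IsElementaryAbelian 2 (Qk b K) := by
  refine ⟨⟨⟨?_⟩⟩, ?_⟩
  · rintro ⟨x, hx⟩ ⟨y, hy⟩
    apply Subtype.ext
    obtain ⟨u, -, rfl⟩ := basis_surj hc hs K x hx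
    obtain ⟨v, -, rfl⟩ := basis_surj hc hs K y hy
    change pe b u K * pe b v K = pe b v K * pe b u K
    rw [← pe_xor hc hs, ← pe_xor hc hs, Nat.xor_comm]
  · intro x hx
    obtain ⟨u, -, rfl⟩ := basis_surj hc hs K x hx
    rw [pow_two, ← pe_xor hc hs, Nat.xor_self, pe_zero]

end Basis

section WordVal

open Cfsg.Agent.Lib.PermComp.Core (app Rep)

/-- The value of a word. -/
theorem wordEl_rp' {s t : Nat} [NeZero t] {W mask : Nat} (a : Fin t → Equiv.Perm (Fin s)) (rc : Fin t → Nat)
    (hr : ∀ i, Rep W mask (Equiv.refl (Fin s)) (rc i) (a i)) (w : List Nat) :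
    Rp (wApp (fun g => app W mask (rc (Fin.ofNat t g))) w) (wordEl a (w.map (Fin.ofNat t))) := by
  have h : wordEl a (w.map (Fin.ofNat t)) = wEl (fun g => a (Fin.ofNat t g)) w := by
    simp [wordEl, wEl, List.map_map, Function.comp_def]
  rw [h]
  refine wApp_spec fun g _ p hp => ?_
  exact hr (Fin.ofNat t g) ⟨p, hp⟩

end WordVal

section Rank2

variable {G : Type*} [Group G] {k : ℕ} {q : Fin k → G} {mt : Fin k → Fin k → Fin k}

/-- No extension of a list of independent commuting involutions by `r` more elements, with the new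
elements in increasing order. -/
def noExt2 (mt : Fin k → Fin k → Fin k) (id : Fin k) : Nat → Nat → List (Fin k) → Bool
  | 0, _, _ => false
  | r + 1, lo, l => (List.finRange k).all fun e =>
      Nat.blt e.val lo || !(decide (mt e e = id)) || decide (e ∈ spanL mt id l) ||
        !(l.all fun x => decide (mt e x = mt x e)) || noExt2 mt id r (e.val + 1) (e :: l)

theorem noExt2_spec {id : Fin k} {r lo : ℕ} {l : List (Fin k)} (hn : noExt2 mt id (r + 1) lo l = true)
    (e : Fin k) (h0 : lo ≤ e.val) (h1 : mt e e = id) (h2 : e ∉ spanL mt id l) (h3 : ∀ x ∈ l, mt e x = mt x e) :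
    noExt2 mt id r (e.val + 1) (e :: l) = true := by
  have h4 := (List.all_eq_true.1 hn) e (List.mem_finRange e)
  have h0' : Nat.blt e.val lo = false := by
    cases h : Nat.blt e.val lo
    · rfl
    · have := blt_lt h
      omega
  simp only [Bool.or_eq_true, Bool.not_eq_true', decide_eq_false_iff_not, decide_eq_true_eq, h1, h2, h0',
    not_true_eq_false, or_false, false_or, List.all_eq_false, Bool.false_eq_true] at h4
  rcases h4 with h4 | h4
  · obtain ⟨x, hx, hx2⟩ := h4
    exact absurd (h3 x hx) hx2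
  · exact h4

theorem mem_spanL_left {id : Fin k} (l : List (Fin k)) : id ∈ spanL mt id l := by
  induction l with
  | nil => simp [spanL]
  | cons x l ih =>
    have e : spanL mt id (x :: l) = spanL mt id l ++ (spanL mt id l).map (mt x) := rfl
    rw [e, List.mem_append]
    exact Or.inl ih

theorem mem_spanL_cons {id y x : Fin k} {l : List (Fin k)} (hy : y ∈ spanL mt id l) :
    y ∈ spanL mt id (x :: l) := by
  have e : spanL mt id (x :: l) = spanL mt id l ++ (spanL mt id l).map (mt x) := rfl
  rw [e, List.mem_append]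
  exact Or.inl hy

/-- The bound for the elementary abelian subgroups from the table, with increasing lists. -/
theorem MT.ea_rank2 (h : MT q mt) {id : Fin k} (hid : mt id id = id) {X : Subgroup G}
    (hX : IsElementaryAbelian 2 X) : ∀ (r lo : ℕ) (l : List (Fin k)), noExt2 mt id (r + 1) lo l = true →
      (∀ x ∈ l, q x ∈ X) → (∀ y, q y ∈ X → y.val < lo → y ∈ spanL mt id l) →
      Nat.card X ≤ 2 ^ (l.length + r) := by
  classical
  have : Finite G := Finite.of_surjective q h.bij.2
  have hone := h.one hid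
  have hmtid : ∀ x, mt x id = x := by
    intro x
    apply h.bij.1
    rw [h.mul, hone, mul_one]
  have hcm : ∀ a ∈ X, ∀ b ∈ X, a * b = b * a := by
    intro a ha b hb
    have := hX.1.is_comm.comm (⟨a, ha⟩ : X) ⟨b, hb⟩
    exact congrArg Subtype.val this
  -- one step
  have step : ∀ (r lo : ℕ) (l : List (Fin k)), noExt2 mt id (r + 1) lo l = true →
      (∀ x ∈ l, q x ∈ X) → (∀ y, q y ∈ X → y.val < lo → y ∈ spanL mt id l) →
      2 ^ l.length < Nat.card X →
      ∃ e, (∀ x ∈ e :: l, q x ∈ X) ∧ noExt2 mt id r (e.val + 1) (e :: l) = true ∧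
        ∀ y, q y ∈ X → y.val < e.val + 1 → y ∈ spanL mt id (e :: l) := by
    intro r lo l hn hl hlo hc
    obtain ⟨x, hx, hx1⟩ := exists_mem_not_in (E := X) ((spanL mt id l).map q) (by
      rw [List.length_map, length_spanL]
      exact hc)
    obtain ⟨e0, rfl⟩ := h.bij.2 x
    have hex : ∃ n : Nat, ∃ e : Fin k, e.val = n ∧ q e ∈ X ∧ e ∉ spanL mt id l :=
      ⟨e0.val, e0, rfl, hx, fun he => hx1 (List.mem_map_of_mem he)⟩
    obtain ⟨e, he, he1, he2⟩ := Nat.find_spec hex
    have hmin : ∀ y, q y ∈ X → y.val < e.val → y ∈ spanL mt id l := by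
      intro y hy hye
      by_contra hy2
      exact Nat.find_min hex (by rw [← he]; exact hye) ⟨y, rfl, hy, hy2⟩
    have hlo' : lo ≤ e.val := by
      by_contra hlt
      exact he2 (hlo e he1 (by omega))
    refine ⟨e, ?_, ?_, ?_⟩
    · intro y hy
      rcases List.mem_cons.1 hy with rfl | hy
      · exact he1
      · exact hl y hy
    · refine noExt2_spec hn e hlo' ?_ he2 ?_
      · apply h.bij.1
        rw [h.mul, hone, ← pow_two]
        exact hX.2 _ he1
      · intro y hy
        apply h.bij.1
        rw [h.mul, h.mul]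
        exact hcm _ he1 _ (hl y hy)
    · intro y hy hye
      by_cases hye2 : y.val < e.val
      · exact mem_spanL_cons (hmin y hy hye2)
      · have e3 : y = e := Fin.ext (by omega)
        rw [e3]
        have e4 : spanL mt id (e :: l) = spanL mt id l ++ (spanL mt id l).map (mt e) := rfl
        rw [e4, List.mem_append]
        right
        exact List.mem_map.2 ⟨id, mem_spanL_left l, hmtid e⟩
  intro r
  induction r with
  | zero =>
    intro lo l hn hl hlo
    by_contra hc
    have hc' : 2 ^ l.length < Nat.card X := by simpa using hc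
    obtain ⟨e, -, h1, -⟩ := step 0 lo l hn hl hlo hc'
    simp [noExt2] at h1
  | succ r ih =>
    intro lo l hn hl hlo
    by_contra hc
    have hc' : 2 ^ l.length < Nat.card X := by
      have h1 : 2 ^ l.length ≤ 2 ^ (l.length + (r + 1)) :=
        Nat.pow_le_pow_right (by norm_num) (by omega)
      omega
    obtain ⟨e, h2, h1, h3⟩ := step (r + 1) lo l hn hl hlo hc'
    have h4 := ih (e.val + 1) (e :: l) h1 h2 h3
    apply hc
    have e1 : (e :: l).length + r = l.length + (r + 1) := by
      rw [List.length_cons]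
      omega
    rwa [e1] at h4

end Rank2

end Cfsg.Agent.Lib.PermComp.OutP
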